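import Cfsg.Agent.H21.Eleven.Extra
import Cfsg.Agent.H63.Eleven.ACore

/-!
The permutation data of case A (helper21).
-/

set_option autoImplicit false

namespace H21.Eleven

open H63.Eleven MulAction

universe u

variable {G : Type u} [Group G] [Finite G] (S : Sys G)

theorem pt_card_mod (hall : S.AllL2) (a : S.Pt) : Nat.card S.Pt % 11 = 1 := by
  haveI : Fact (Nat.Prime 11) := ⟨by norm_num⟩
  have hP : IsPGroup 11 a.1 := IsPGroup.of_card (n := 1) (by rw [pt_card S a, pow_one])
  have h := hP.card_modEq_card_fixedPoints (α := S.Pt)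
  have h1 : Nat.card (fixedPoints a.1 S.Pt) = 1 := by
    rw [show fixedPoints a.1 S.Pt = ({a} : Set S.Pt) from ?_, Nat.card_coe_set_eq,
      Set.ncard_singleton]
    ext b
    constructor
    · intro hb
      obtain ⟨g, hg, hgo, -⟩ := exists_gen (pt_card S a)
      exact pt_fix_unique S hall hg (fun e => by simp [e] at hgo) (hb ⟨g, hg⟩)
    · rintro rfl p
      exact Subtype.ext (cj_eq_of_mem p.2)
  rw [h1] at h
  exact h

/-- The order of a semiregular subgroup divides the number of points. -/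
theorem card_dvd_of_semiregular {H : Subgroup G} {Ω : Type u} [MulAction G Ω] [Finite Ω]
    (X : Set Ω) (hX : ∀ h ∈ H, ∀ c ∈ X, h • c ∈ X)
    (hfree : ∀ h ∈ H, ∀ c ∈ X, h • c = c → h = 1) : Nat.card H ∣ Nat.card X := by
  letI : MulAction H X :=
    { smul := fun h c => ⟨(h : G) • (c : Ω), hX h h.2 c c.2⟩
      one_smul := fun c => Subtype.ext (one_smul G (c : Ω))
      mul_smul := fun h k c => Subtype.ext (mul_smul (h : G) (k : G) (c : Ω)) }
  have hst : ∀ c : X, stabilizer H c = ⊥ := fun c => (Subgroup.eq_bot_iff_forall _).mpr fun h hh =>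
    Subtype.ext (hfree h h.2 c c.2 (congrArg Subtype.val (mem_stabilizer_iff.mp hh)))
  classical
  haveI : Fintype (orbitRel.Quotient H X) := Fintype.ofFinite _
  rw [Nat.card_congr (selfEquivSigmaOrbitsQuotientStabilizer H X), Nat.card_sigma]
  exact Finset.dvd_sum fun i _ => by rw [hst, QuotientGroup.quotientBot.toEquiv |> Nat.card_congr]

variable (hall : S.AllL2)
include hall

theorem card_stab_pair {a b : S.Pt} (hab : a ≠ b) :
    Nat.card ↥(stabilizer G a ⊓ stabilizer G b : Subgroup G) ∣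
        10 * Nat.card ↥(wgp S a ⊓ stabilizer G b : Subgroup G) ∧
      5 * Nat.card ↥(wgp S a ⊓ stabilizer G b : Subgroup G) ∣
        Nat.card ↥(stabilizer G a ⊓ stabilizer G b : Subgroup G) := by
  haveI : Fact (Nat.Prime 5) := ⟨by norm_num⟩
  let M : Subgroup G := stabilizer G a ⊓ stabilizer G b
  have hMN : M ≤ Subgroup.normalizer (a.1 : Set G) := fun x hx =>
    mem_normalizer_iff_cj.mpr ((pt_smul_eq_iff S).mp hx.1)
  let φ : M →* MulAut a.1 := a.1.normalizerMonoidHom.comp (Subgroup.inclusion hMN)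
  have hker : φ.ker = (wgp S a ⊓ stabilizer G b).subgroupOf M := by
    ext x
    rw [MonoidHom.mem_ker, MonoidHom.comp_apply, ← MonoidHom.mem_ker,
      Subgroup.normalizerMonoidHom_ker, Subgroup.mem_subgroupOf, Subgroup.mem_subgroupOf]
    exact ⟨fun h => ⟨h, x.2.2⟩, fun h => h.1⟩
  have hle : wgp S a ⊓ stabilizer G b ≤ M := fun x hx => ⟨fix_of_wgp S hx.1, hx.2⟩
  have hM : Nat.card M = Nat.card φ.range * Nat.card ↥(wgp S a ⊓ stabilizer G b : Subgroup G) := by
    rw [Subgroup.card_eq_card_quotient_mul_card_subgroup φ.ker,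
      Nat.card_congr (QuotientGroup.quotientKerEquivRange φ).toEquiv, hker,
      card_subgroupOf hle]
  haveI : IsCyclic a.1 := isCyclic_of_prime_card (pt_card S a)
  have h10 : Nat.card φ.range ∣ 10 := by
    have := Subgroup.card_subgroup_dvd_card φ.range
    rwa [IsCyclic.card_mulAut, pt_card S a, Nat.totient_prime (by norm_num)] at this
  obtain ⟨y, -, hy5, hyL, hya, hyb, -⟩ := exists_frame S hall hab
  have hy : orderOf (φ ⟨y, hya, hyb⟩) = 5 := by
    refine orderOf_eq_prime ?_ ?_
    · rw [← map_pow, ← map_one φ]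
      exact congrArg φ (Subtype.ext (hy5 ▸ pow_orderOf_eq_one y))
    · intro e
      rw [← MonoidHom.mem_ker, hker, Subgroup.mem_subgroupOf] at e
      have h1 := (isLine S hall hab).eq_one_of_fix_five hyL ((mem_wgp S).mp e.1)
        (hy5 ▸ pow_orderOf_eq_one y)
      rw [h1, orderOf_one] at hy5
      norm_num at hy5
  have h5 : 5 ∣ Nat.card φ.range := by
    rw [← hy]
    exact Subgroup.orderOf_dvd_natCard φ.range ⟨_, rfl⟩
  exact ⟨hM ▸ Nat.mul_dvd_mul_right h10 _, hM ▸ Nat.mul_dvd_mul_right h5 _⟩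

theorem card_wgp {a b : S.Pt} (hab : a ≠ b) :
    Nat.card (wgp S a) =
      (Nat.card S.Pt - 1) * Nat.card ↥(wgp S a ⊓ stabilizer G b : Subgroup G) := by
  have horb : orbit (wgp S a) b = ({a} : Set S.Pt)ᶜ := by
    ext c
    constructor
    · rintro ⟨g, rfl⟩ (hc : (g : G) • b = a)
      exact hab (smul_left_cancel (g : G) ((fix_of_wgp S g.2).trans hc.symm))
    · intro hc
      obtain ⟨g, hg, hgc⟩ := wgp_orbit S hall hab (Ne.symm hc)
      exact ⟨⟨g, hg⟩, hgc⟩
  have h1 := Subgroup.card_mul_index (stabilizer (wgp S a) b)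
  rw [index_stabilizer, horb, Set.ncard_compl, Set.ncard_singleton] at h1
  rw [← h1, mul_comm]
  congr 1
  refine Eq.trans (Nat.card_congr (Equiv.setCongr ?_)) (card_subgroupOf (inf_le_left))
  ext x
  exact ⟨fun h => ⟨x.2, h⟩, fun h => h.2⟩

theorem five_v_semiregular {a b : S.Pt} (hab : a ≠ b)
    (hnone : ∀ (c : S.Pt) (x : G), a ≠ c → x ∈ wgp S a → x • b = b → x ≠ 1 →
      x • c ∈ lineSet S a c → c ∈ lineSet S a b) :
    11 * (5 * Nat.card ↥(wgp S a ⊓ stabilizer G b : Subgroup G)) ∣ Nat.card S.Pt - 12 := by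
  obtain ⟨y, w, hy5, hyL, hya, hyb, -, -, -, -, -, hfix, hcomm, hyx, -⟩ := exists_frame S hall hab
  have hl := isLine S hall hab
  let V : Subgroup G := wgp S a ⊓ stabilizer G b
  have hcl : ∀ x ∈ V, x * y = y * x := fun x hx => (hcomm x hx.1 hx.2).1
  let φ : Subgroup.zpowers y × V →* G :=
    (Subgroup.zpowers y).subtype.noncommCoprod V.subtype fun p x => by
      obtain ⟨n, hn⟩ := Subgroup.mem_zpowers_iff.mp p.2
      show Commute (p : G) (x : G)
      rw [← hn]
      exact (show Commute y (x : G) from (hcl x x.2).symm).zpow_left n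
  have hinj : Function.Injective φ := by
    rw [injective_iff_map_eq_one]
    rintro ⟨p, x⟩ e
    have e' : (p : G) * x = 1 := e
    have hpW : (p : G) ∈ wgp S a := by
      rw [eq_inv_of_mul_eq_one_left e']
      exact (wgp S a).inv_mem x.2.1
    have hp1 : (p : G) = 1 := by
      refine hl.eq_one_of_fix_five
        ((Subgroup.zpowers_le.mpr hyL) p.2) ((mem_wgp S).mp hpW) ?_
      have := pow_card_eq_one' (x := p)
      rw [Nat.card_zpowers, hy5] at this
      exact congrArg Subtype.val this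
    rw [hp1, one_mul] at e'
    exact Prod.ext (Subtype.ext hp1) (Subtype.ext e')
  let H : Subgroup G := φ.range
  have hcard : Nat.card H = 5 * Nat.card V := by
    rw [← Nat.card_congr (MonoidHom.ofInjective hinj).toEquiv, Nat.card_prod, Nat.card_zpowers, hy5]
  have hst : ∀ h ∈ H, h • a = a ∧ h • b = b := by
    rintro h ⟨⟨p, x⟩, rfl⟩
    show ((p : G) * x) • a = a ∧ ((p : G) * x) • b = b
    rw [mul_smul, mul_smul, fix_of_wgp S x.2.1, x.2.2]
    exact ⟨(Subgroup.zpowers_le.mpr (show y ∈ stabilizer G a from hya)) p.2,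
      (Subgroup.zpowers_le.mpr (show y ∈ stabilizer G b from hyb)) p.2⟩
  have hHN : H ≤ Subgroup.normalizer (a.1 : Set G) := fun h hh =>
    mem_normalizer_iff_cj.mpr ((pt_smul_eq_iff S).mp (hst h hh).1)
  have hdec : ∀ g ∈ H ⊔ a.1, ∃ h ∈ H, ∃ p ∈ a.1, g = h * p := by
    intro g hg
    have : g ∈ ((H ⊔ a.1 : Subgroup G) : Set G) := hg
    rw [Subgroup.coe_mul_of_left_le_normalizer_right H a.1 hHN] at this
    obtain ⟨h, hh, p, hp, rfl⟩ := Set.mem_mul.mp this
    exact ⟨h, hh, p, hp, rfl⟩
  have hHP : ∀ h ∈ H, h ∈ a.1 → h = 1 := fun h hh hp =>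
    hl.eq_one_of_mem hp ((pt_smul_eq_iff S).mp (hst h hh).2)
  have hcard' : Nat.card ↥(H ⊔ a.1 : Subgroup G) = 5 * Nat.card V * 11 := by
    rw [← hcard, ← pt_card S a, ← Nat.card_prod]
    refine (Nat.card_congr (Equiv.ofBijective (fun q : H × a.1 =>
      (⟨q.1 * q.2, Subgroup.mul_mem_sup q.1.2 q.2.2⟩ : ↥(H ⊔ a.1 : Subgroup G))) ⟨?_, ?_⟩)).symm
    · rintro ⟨h, p⟩ ⟨h', p'⟩ e
      have e' : (h : G) * p = h' * p' := congrArg Subtype.val e
      have h1 : (h' : G)⁻¹ * h = p' * (p : G)⁻¹ := by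
        calc (h' : G)⁻¹ * h = (h' : G)⁻¹ * (h * p) * (p : G)⁻¹ := by group
          _ = (h' : G)⁻¹ * (h' * p') * (p : G)⁻¹ := by rw [e']
          _ = p' * (p : G)⁻¹ := by group
      have h2 := hHP _ (H.mul_mem (H.inv_mem h'.2) h.2) (h1 ▸ a.1.mul_mem p'.2 (a.1.inv_mem p.2))
      have hh : h = h' := Subtype.ext (inv_mul_eq_one.mp h2).symm
      subst hh
      exact Prod.ext rfl (Subtype.ext (mul_left_cancel e'))
    · rintro ⟨g, hg⟩
      obtain ⟨h, hh, p, hp, rfl⟩ := hdec g hg
      exact ⟨(⟨h, hh⟩, ⟨p, hp⟩), rfl⟩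
  have hX : Nat.card ↥((lineSet S a b)ᶜ : Set S.Pt) = Nat.card S.Pt - 12 := by
    rw [Nat.card_coe_set_eq, Set.ncard_compl, ← Nat.card_coe_set_eq, line_card' S hall hab]
  rw [← hX, mul_comm, show Nat.card ↥(wgp S a ⊓ stabilizer G b : Subgroup G) = Nat.card V from rfl,
    ← hcard']
  refine card_dvd_of_semiregular _ ?_ ?_
  · intro g hg c hc hgc
    apply hc
    obtain ⟨h, hh, p, hp, e0⟩ := hdec g⁻¹ (Subgroup.inv_mem _ hg)
    have hpb : p • b ∈ lineSet S a b := cj_le_of_mem (hl.leA hp) le_sup_right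
    have hpa : p • a = a := Subtype.ext (cj_eq_of_mem hp)
    have hne : a ≠ p • b := fun e => hab (smul_left_cancel p (hpa.trans e))
    have e := line_smul' S h a (p • b)
    rw [line_eq' S hall hab (line_left' S a b) hpb hne] at e
    have e1 := line_smul' S h a b
    rw [(hst h hh).1, (hst h hh).2] at e1
    have e2 := line_smul' S p a b
    rw [hpa, line_eq' S hall hab (line_left' S a b) hpb hne] at e2
    rw [e1]
    refine ⟨p • (g • c), by rw [e2]; exact ⟨g • c, hgc, rfl⟩, ?_⟩
    show h • p • g • c = c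
    rw [← mul_smul, ← mul_smul, ← e0, inv_mul_cancel, one_smul]
  · intro g hg c hc hgc
    obtain ⟨h, hh, p, hp, rfl⟩ := hdec g hg
    have hca : a ≠ c := fun e => hc (e ▸ line_left' S a b)
    have hpL : p ∈ span S a c := (le_sup_left : a.1 ≤ span S a c) hp
    have hpa : p • a = a := Subtype.ext (cj_eq_of_mem hp)
    have hd : p • c ∈ lineSet S a c := cj_le_of_mem hpL le_sup_right
    have hda : a ≠ p • c := fun e => hca (smul_left_cancel p (hpa.trans e))
    have hline : lineSet S a (p • c) = lineSet S a c :=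
      line_eq' S hall hca (line_left' S a c) hd hda
    have hdL : p • c ∉ lineSet S a b := fun hd' => hc (by
      rw [← line_eq' S hall hab (line_left' S a b) hd' hda, hline]
      exact line_right' S a c)
    rw [mul_smul] at hgc
    have hhd : h • (p • c) ∈ lineSet S a (p • c) := by
      rw [hgc, hline]
      exact line_right' S a c
    obtain ⟨⟨q, x⟩, hqx⟩ := hh
    have hqx' : (q : G) * x = h := hqx
    obtain ⟨i, hi⟩ := mem_powers_iff_mem_zpowers.mpr q.2
    change y ^ i = (q : G) at hi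
    by_cases h5 : 5 ∣ i
    · have hq1 : (q : G) = 1 := by
        rw [← hi]
        exact orderOf_dvd_iff_pow_eq_one.mp (hy5 ▸ h5)
      rw [hq1, one_mul] at hqx'
      subst hqx'
      by_cases hx : (x : G) = 1
      · rw [hx, one_smul] at hgc
        rw [hx, one_mul]
        by_contra hp1
        exact hca (pt_fix_unique S hall hp hp1 hgc).symm
      · exact absurd (hnone _ _ hda x.2.1 x.2.2 hx hhd) hdL
    · exfalso
      have hha : h • a = a := (hst h ⟨(q, x), hqx⟩).1
      have hhW : h ∉ wgp S a := by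
        intro hW
        rw [← hqx'] at hW
        have hqW := ((wgp S a).mul_mem_cancel_right x.2.1).mp hW
        rw [← hi] at hqW
        have h1 := hl.eq_one_of_fix_five (Subgroup.pow_mem _ hyL i) ((mem_wgp S).mp hqW)
          (by
            have hy1 : y ^ 5 = 1 := hy5 ▸ pow_orderOf_eq_one y
            rw [← pow_mul, mul_comm, pow_mul, hy1, one_pow])
        exact h5 (hy5 ▸ orderOf_dvd_of_pow_eq_one h1)
      obtain ⟨e, he, hea, hef⟩ := line_fix' S hall hda hha hhW hhd
      rw [← hqx', ← hi] at hef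
      rcases hyx x x.2.1 x.2.2 i h5 e hef with rfl | rfl
      · exact hea rfl
      · exact hdL (by
          rw [line_eq' S hall hda (line_left' S a (p • c)) he hab]
          exact line_right' S a (p • c))

/-- Case A data from a line and a point outside it. -/
theorem acore_of_outside (hG : IsSimpleGroup G) (hsub : S.SubHyp) {a₀ b₀ c₀ : S.Pt} (h₀ : a₀ ≠ b₀)
    (hc₀ : c₀ ∉ lineSet S a₀ b₀) : Nonempty (ACore G S.Pt) := by
  have twoTr : ∀ a b c d : S.Pt, a ≠ b → c ≠ d → ∃ g : G, g • a = c ∧ g • b = d := by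
    intro a b c d hab hcd
    obtain ⟨g, hg⟩ := pt_trans S a c
    have hne : c ≠ g • b := fun e => hab (smul_left_cancel g (hg.trans e))
    obtain ⟨k, hk, hkd⟩ := wgp_orbit S hall hne hcd
    exact ⟨k * g, by rw [mul_smul, hg, fix_of_wgp S hk], by rw [mul_smul, hkd]⟩
  let v := Nat.card ↥(wgp S a₀ ⊓ stabilizer G b₀ : Subgroup G)
  have hV : ∀ a b : S.Pt, a ≠ b → Nat.card ↥(wgp S a ⊓ stabilizer G b : Subgroup G) = v := by
    intro a b hab
    obtain ⟨g, rfl, rfl⟩ := twoTr a₀ b₀ a b h₀ hab
    refine Nat.card_congr (Equiv.symm ?_)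
    exact
      { toFun := fun x => ⟨g * x * g⁻¹, wgp_conj S x.2.1, by
          show (g * x * g⁻¹) • g • b₀ = g • b₀
          rw [mul_smul, inv_smul_smul, mul_smul, x.2.2]⟩
        invFun := fun x => ⟨g⁻¹ * x * g, by
          have := wgp_conj S (g := g⁻¹) x.2.1
          simpa using this, by
          show (g⁻¹ * x * g) • b₀ = b₀
          rw [mul_smul, mul_smul, x.2.2, inv_smul_smul]⟩
        left_inv := fun x => Subtype.ext (by group)
        right_inv := fun x => Subtype.ext (by group) }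
  have hmod := pt_card_mod S hall a₀
  have hlt : 12 < Nat.card S.Pt := by
    rw [← line_card' S hall h₀, Nat.card_coe_set_eq, ← Set.ncard_univ]
    exact Set.ncard_lt_ncard (Set.ssubset_univ_iff.mpr fun e => hc₀ (e ▸ Set.mem_univ c₀))
  obtain ⟨u, hu⟩ : ∃ u, Nat.card S.Pt = 11 * u + 1 :=
    ⟨Nat.card S.Pt / 11, by omega⟩
  have hu5 : u % 5 = 1 := by
    obtain ⟨y, -, hy5, -, hya, hyb, -, -, -, -, -, hfix, -⟩ := exists_frame S hall h₀
    haveI : Fact (Nat.Prime 5) := ⟨by norm_num⟩
    have hP : IsPGroup 5 (Subgroup.zpowers y) :=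
      IsPGroup.of_card (n := 1) (by rw [Nat.card_zpowers, hy5, pow_one])
    have h := hP.card_modEq_card_fixedPoints (α := S.Pt)
    have h2 : Nat.card (fixedPoints (Subgroup.zpowers y) S.Pt) = 2 := by
      rw [show fixedPoints (Subgroup.zpowers y) S.Pt = ({a₀, b₀} : Set S.Pt) from ?_,
        Nat.card_coe_set_eq, Set.ncard_pair h₀]
      ext c
      constructor
      · intro hc
        exact hfix c (hc ⟨y, Subgroup.mem_zpowers y⟩)
      · rintro (rfl | rfl) p
        · exact (Subgroup.zpowers_le.mpr (show y ∈ stabilizer G c from hya)) p.2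
        · exact (Subgroup.zpowers_le.mpr (show y ∈ stabilizer G c from hyb)) p.2
    rw [h2, Nat.ModEq, hu] at h
    omega
  have hfive : (∀ (a b c : S.Pt) (x : G), a ≠ b → a ≠ c → x ∈ wgp S a → x • b = b → x ≠ 1 →
      x • c ∈ lineSet S a c → c ∈ lineSet S a b) → 5 * v ∣ u - 1 := by
    intro hn
    have h := five_v_semiregular S hall h₀ (fun c x => hn a₀ b₀ c x h₀)
    rw [hu, show 11 * u + 1 - 12 = 11 * (u - 1) by omega] at h
    exact Nat.dvd_of_mul_dvd_mul_left (by norm_num) h
  refine ⟨{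
    simple := hG
    noncomm := ?_
    faithful := ?_
    twoTrans := twoTr
    u := u
    card_points := hu
    one_lt_u := by omega
    u_mod := hu5
    W := wgp S
    W_le := fun a x hx => fix_of_wgp S hx
    W_conj := fun g x a hx => wgp_conj S hx
    pow_ten := fun a x hx => (mem_wgp S).mpr
      (pow_ten_centralises (pt_card S a) ((pt_smul_eq_iff S).mp hx))
    comm_mem := fun a x y hx hy => (mem_wgp S).mpr
      (comm_centralises (pt_card S a) ((pt_smul_eq_iff S).mp hx) ((pt_smul_eq_iff S).mp hy))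
    P := fun a => a.1
    card_P := pt_card S
    P_le := ?_
    W_iff := fun a x => mem_wgp S
    P_conj := fun g a => rfl
    P_fix := fun a b x hx h1 hb => pt_fix_unique S hall hx h1 hb
    v := v
    card_V := hV
    card_W := ?_
    V_sym := fun a b x hab hx hb => wgp_sym S hall hab hx hb
    line := lineSet S
    line_left := fun a b _ => line_left' S a b
    line_right := fun a b _ => line_right' S a b
    line_card := fun a b hab => line_card' S hall hab
    line_eq := fun a b c d hab hc hd hcd => line_eq' S hall hab hc hd hcd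
    line_smul := fun g a b _ => line_smul' S g a b
    V_fix := fun a b x hab hx hb h1 c => fix_line S hall hG hsub hab hx hb h1
    three := fun a b c x hab hac hbc ha hb hc => three_sq S hall hab hac hbc ha hb hc
    card_M := fun a b hab => hV a b hab ▸ card_stab_pair S hall hab
    five_v_dvd' := hfive
    P_line := fun a b x _ hx =>
      cj_le_of_mem ((le_sup_left : a.1 ≤ span S a b) hx) le_sup_right
    line_stab := fun a c x hac hx hc => line_stab' S hall hac hx hc
    line_fix := fun a c x hac hxa hxW hc => line_fix' S hall hac hxa hxW hc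
    line_four := fun a b hab x s h1 h2 h3 h4 h5 h6 h7 h8 =>
      line_four' S hall hab h1 h2 h3 h4 h5 h6 h7 h8
    line_invol := fun a b hab w h1 h2 h3 h4 _ => line_invol' S hall hab h1 h2 h3 h4
    exists_y := ?_ }⟩
  · by_contra hn
    push Not at hn
    obtain ⟨g, hg⟩ := S.moved
    exact hg (cj_fix_of_centralises fun p _ => hn g p)
  · intro g hg
    let N : Subgroup G := ⨅ a : S.Pt, stabilizer G a
    haveI : N.Normal := ⟨fun n hn k => by
      simp only [N, Subgroup.mem_iInf, mem_stabilizer_iff] at hn ⊢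
      intro a
      rw [mul_smul, mul_smul, hn, smul_inv_smul]⟩
    rcases hG.eq_bot_or_eq_top_of_normal N inferInstance with h | h
    · rw [← Subgroup.mem_bot, ← h]
      simpa [N, Subgroup.mem_iInf] using hg
    · obtain ⟨k, hk⟩ := S.moved
      refine absurd ?_ hk
      have h1 : k ∈ N := h ▸ Subgroup.mem_top k
      simp only [N, Subgroup.mem_iInf, mem_stabilizer_iff] at h1
      exact congrArg Subtype.val (h1 ⟨S.P, 1, cj_one S.P⟩)
  · intro a p hp
    rw [mem_wgp]
    intro q hq
    haveI : IsCyclic a.1 := isCyclic_of_prime_card (pt_card S a)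
    letI := IsCyclic.commGroup (α := a.1)
    exact congrArg Subtype.val (mul_comm (⟨p, hp⟩ : a.1) ⟨q, hq⟩)
  · intro a
    obtain ⟨b, hab⟩ : ∃ b, a ≠ b := by
      by_cases e : a = a₀
      · exact ⟨b₀, e ▸ h₀⟩
      · exact ⟨a₀, e⟩
    rw [card_wgp S hall hab, hV a b hab, hu, Nat.add_sub_cancel]
  · intro a b hab
    obtain ⟨y, w, hy5, -, hya, hyb, -, hw2, hwa, hwb, hwy, hfix, hcomm, hyx, hty, hwf, hswap, htw⟩ :=
      exists_frame S hall hab
    refine ⟨y, hy5, hya, hyb, hfix, fun x hx hb => (hcomm x hx hb).1, fun x hx hb c hc => ?_,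
      fun t _ hta htb => hty t hta htb, w, hw2, hwa, hwb, hwy, hwf,
      fun x hx hb => (hcomm x hx hb).2, hswap, htw⟩
    exact hyx x hx hb 1 (by norm_num) c (by rwa [pow_one])

end H21.Eleven
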