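import Cfsg.Agent.H21.Eleven.Trans

/-!
Stabilisers of lines and their action as automorphisms of `L₂(11)` (helper21).
-/

set_option autoImplicit false

namespace H21.Eleven

open H63.Eleven MulAction

universe u

variable {G : Type u} [Group G] (S : Sys G)

/-- The points of a line. -/
def lineSet (a b : S.Pt) : Set S.Pt := {c | c.1 ≤ span S a b}

theorem mem_lineSet {a b c : S.Pt} : c ∈ lineSet S a b ↔ c.1 ≤ span S a b := Iff.rfl

theorem line_left' (a b : S.Pt) : a ∈ lineSet S a b := le_sup_left (a := a.1)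

theorem line_right' (a b : S.Pt) : b ∈ lineSet S a b := le_sup_right (b := b.1)

theorem line_smul' (g : G) (a b : S.Pt) :
    lineSet S (g • a) (g • b) = (fun c => g • c) '' lineSet S a b := by
  ext c
  constructor
  · intro hc
    refine ⟨g⁻¹ • c, ?_, smul_inv_smul g c⟩
    rw [mem_lineSet] at hc ⊢
    have := cj_le_cj (g := g⁻¹) hc
    rwa [cj_sup, pt_smul_val, pt_smul_val, cj_inv_cj, cj_inv_cj, ← pt_smul_val] at this
  · rintro ⟨d, hd, rfl⟩
    rw [mem_lineSet] at hd ⊢
    have := cj_le_cj (g := g) hd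
    rwa [cj_sup, ← pt_smul_val, ← pt_smul_val, ← pt_smul_val] at this

variable [Finite G] (hall : S.AllL2)
include hall

theorem line_eq' {a b c d : S.Pt} (hab : a ≠ b) (hc : c ∈ lineSet S a b) (hd : d ∈ lineSet S a b)
    (hcd : c ≠ d) : lineSet S c d = lineSet S a b := by
  have := (isLine S hall hab).sup_eq (pt_card S c) (pt_card S d) hc hd fun e => hcd (Subtype.ext e)
  ext e
  rw [mem_lineSet, mem_lineSet, span, this]

theorem line_card' {a b : S.Pt} (hab : a ≠ b) : Nat.card (lineSet S a b) = 12 := by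
  rw [← l2_card_sylow (hall a b hab)]
  refine Nat.card_congr (Equiv.ofBijective
    (fun c => ⟨c.1.1.subgroupOf (span S a b), (card_subgroupOf c.2).trans (pt_card S c.1)⟩) ⟨?_, ?_⟩)
  · intro c d e
    exact Subtype.ext (Subtype.ext (subgroupOf_inj c.2 d.2 (congrArg Subtype.val e)))
  · rintro ⟨A, hA⟩
    obtain ⟨c, hc⟩ := exists_pt_of_le S hall hab (C := A.map (span S a b).subtype)
      (by rw [← Nat.card_congr
            (A.equivMapOfInjective _ (span S a b).subtype_injective).toEquiv, hA])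
      (Subgroup.map_subtype_le A)
    refine ⟨⟨c, by rw [mem_lineSet, hc]; exact Subgroup.map_subtype_le A⟩, Subtype.ext ?_⟩
    show c.1.subgroupOf (span S a b) = A
    rw [hc]
    exact Subgroup.comap_map_eq_self_of_injective (span S a b).subtype_injective A

theorem exists_translation {a c d : S.Pt} (hac : a ≠ c) (hd : d ∈ lineSet S a c) (hda : d ≠ a) :
    ∃ p ∈ a.1, p • c = d := by
  haveI : Finite {e : S.Pt // e ∈ lineSet S a c ∧ e ≠ a} := inferInstance
  let f : a.1 → {e : S.Pt // e ∈ lineSet S a c ∧ e ≠ a} := fun p =>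
    ⟨(p : G) • c,
      cj_le_of_mem ((le_sup_left : a.1 ≤ span S a c) p.2) le_sup_right,
      fun e => hac (by
        have hpa : (p : G) • a = a := Subtype.ext (cj_eq_of_mem p.2)
        exact (smul_left_cancel (p : G) (e.trans hpa.symm)).symm)⟩
  have hinj : Function.Injective f := by
    intro p q e
    have e' : (p : G) • c = (q : G) • c := congrArg Subtype.val e
    have h1 := (isLine S hall hac).eq_one_of_mem (x := (q : G)⁻¹ * p)
      (a.1.mul_mem (a.1.inv_mem q.2) p.2)
      ((pt_smul_eq_iff S).mp (show ((q : G)⁻¹ * p) • c = c by rw [mul_smul, e', inv_smul_smul]))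
    exact Subtype.ext (inv_mul_eq_one.mp h1).symm
  have hcard : Nat.card {e : S.Pt // e ∈ lineSet S a c ∧ e ≠ a} ≤ Nat.card a.1 := by
    classical
    have := Nat.card_congr (Equiv.optionSubtypeNe (⟨a, line_left' S a c⟩ : lineSet S a c))
    rw [Finite.card_option, line_card' S hall hac] at this
    have e : Nat.card {e : lineSet S a c // e ≠ ⟨a, line_left' S a c⟩} =
        Nat.card {e : S.Pt // e ∈ lineSet S a c ∧ e ≠ a} :=
      Nat.card_congr
        { toFun := fun e => ⟨e.1.1, e.1.2, fun h => e.2 (Subtype.ext h)⟩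
          invFun := fun e => ⟨⟨e.1, e.2.1⟩, fun h => e.2.2 (congrArg Subtype.val h)⟩
          left_inv := fun e => rfl
          right_inv := fun e => rfl }
    rw [pt_card S a, ← e]
    exact le_of_eq (Nat.add_right_cancel (this : _ = 11 + 1))
  obtain ⟨p, hp⟩ := (hinj.bijective_of_nat_card_le hcard).2 ⟨d, hd, hda⟩
  exact ⟨p, p.2, congrArg Subtype.val hp⟩

theorem line_stab' {a c : S.Pt} {x : G} (hac : a ≠ c) (hx : x ∈ wgp S a)
    (hc : x • c ∈ lineSet S a c) : ∃ p ∈ a.1, (x * p) • c = c := by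
  have hxa := fix_of_wgp S hx
  have hne : x • c ≠ a := fun e => hac (smul_left_cancel x (hxa.trans e.symm))
  obtain ⟨p, hp, hpc⟩ := exists_translation S hall hac hc hne
  refine ⟨p⁻¹, a.1.inv_mem hp, ?_⟩
  have hcomm : x * p⁻¹ = p⁻¹ * x := (mem_wgp S).mp hx _ (a.1.inv_mem hp)
  rw [hcomm, mul_smul, ← hpc, inv_smul_smul]

theorem line_fix' {a c : S.Pt} {x : G} (hac : a ≠ c) (hxa : x • a = a) (hxW : x ∉ wgp S a)
    (hc : x • c ∈ lineSet S a c) : ∃ d ∈ lineSet S a c, d ≠ a ∧ x • d = d := by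
  obtain ⟨m, hm⟩ := mult_pt S hxa
  have hm1 : (1 : ZMod 11) - m ≠ 0 := fun e =>
    hxW ((mem_wgp S).mpr (mult_one_iff.mp ((sub_eq_zero.mp e) ▸ hm)))
  have hne : x • c ≠ a := fun e => hac (smul_left_cancel x (hxa.trans e.symm))
  obtain ⟨p, hp, hpc⟩ := exists_translation S hall hac hc hne
  obtain ⟨g, hg, -, hgen⟩ := exists_gen (pt_card S a)
  obtain ⟨k, rfl⟩ := hgen p hp
  let n : ℕ := ((k : ZMod 11) * (1 - m)⁻¹).val
  have hn : ((n * m.val + k : ℕ) : ZMod 11) = ((n : ℕ) : ZMod 11) := by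
    have e : (n : ZMod 11) * (1 - m) = k := by
      rw [show (n : ZMod 11) = (k : ZMod 11) * (1 - m)⁻¹ from ZMod.natCast_zmod_val _, mul_assoc,
        inv_mul_cancel₀ hm1, mul_one]
    simp only [Nat.cast_add, Nat.cast_mul, ZMod.natCast_val, ZMod.cast_id', id_eq]
    linear_combination -e
  have hga : g ^ n • a = a := Subtype.ext (cj_eq_of_mem (a.1.pow_mem hg n))
  refine ⟨g ^ n • c, cj_le_of_mem ((le_sup_left : a.1 ≤ span S a c) (a.1.pow_mem hg n)) le_sup_right,
    fun e => hac (smul_left_cancel (g ^ n) (hga.trans e.symm)), ?_⟩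
  calc x • g ^ n • c = (x * g ^ n * x⁻¹) • x • c := by rw [← mul_smul, ← mul_smul]; group
    _ = (g ^ n) ^ m.val • g ^ k • c := by rw [hm _ (a.1.pow_mem hg n), hpc]
    _ = g ^ (n * m.val + k) • c := by rw [← mul_smul, ← pow_mul, ← pow_add]
    _ = g ^ n • c := by
      rw [pow_eq_pow_mod (n * m.val + k) (pow_eleven (pt_card S a) hg),
        pow_eq_pow_mod n (pow_eleven (pt_card S a) hg),
        (ZMod.natCast_eq_natCast_iff' _ _ _).mp hn]

/-- An element fixing every point of a line centralises it. -/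
theorem centralises_of_fix_line {a b : S.Pt} (hab : a ≠ b) {x : G}
    (hx : ∀ c ∈ lineSet S a b, x • c = c) : x ∈ wgp S a := by
  obtain ⟨m, hm⟩ := mult_pt S (hx a (line_left' S a b))
  have hA := pt_card S a
  obtain ⟨g, hg, hgo, -⟩ := exists_gen hA
  have hgL : g ∈ span S a b := (le_sup_left : a.1 ≤ span S a b) hg
  have hgb : g • b ∈ lineSet S a b := cj_le_of_mem hgL le_sup_right
  have hg1 : g ≠ 1 := fun e => by simp [e] at hgo
  have hne : g • b ≠ b := fun e => hab (pt_fix_unique S hall hg hg1 e).symm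
  have hga : g • a = a := Subtype.ext (cj_eq_of_mem hg)
  have hne' : a ≠ g • b := fun e => hab (smul_left_cancel g (hga.trans e))
  obtain ⟨n, hn⟩ := mult_pt S (hx b (line_right' S a b))
  obtain ⟨k, hk⟩ := mult_pt S (hx _ hgb)
  have h1 := mult_pair S hall hab (hx a (line_left' S a b)) (hx b (line_right' S a b)) hm hn
  have h2 := mult_pair S hall hne' (hx a (line_left' S a b)) (hx _ hgb) hm hk
  have h3 := mult_pair S hall hne.symm (hx b (line_right' S a b)) (hx _ hgb) hn hk
  have hm2 : m * m = 1 := by linear_combination m * k * h1 + h2 - m ^ 2 * h3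
  rcases mul_self_eq_one_iff.mp hm2 with e | e
  · exact (mem_wgp S).mpr (mult_one_iff.mp (e ▸ hm))
  exfalso
  -- inversion of all points would force `g ^ 2` to normalise `b`
  subst e
  have hn1 : n = -1 := by linear_combination -h1
  have hk1 : k = -1 := by linear_combination -h2
  subst hn1 hk1
  have inv : ∀ {C : Subgroup G}, Nat.card C = 11 → Mult x C (-1) → ∀ z ∈ C,
      x * z * x⁻¹ = z⁻¹ := by
    intro C hC h z hz
    rw [h z hz, show (-1 : ZMod 11).val = 10 from rfl]
    exact eq_inv_of_mul_eq_one_left (by rw [← pow_succ]; exact pow_eleven hC hz)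
  have hb2 : ∀ q ∈ b.1, g ^ 2 * q = q * g ^ 2 := by
    intro q hq
    have hq' : g * q * g⁻¹ ∈ (g • b).1 := by
      rw [pt_smul_val, mem_cj]
      simpa [mul_assoc] using hq
    have e1 := inv (pt_card S _) hk _ hq'
    have e2 : x * (g * q * g⁻¹) * x⁻¹ = g⁻¹ * q⁻¹ * g := by
      calc x * (g * q * g⁻¹) * x⁻¹ = (x * g * x⁻¹) * (x * q * x⁻¹) * (x * g * x⁻¹)⁻¹ := by group
        _ = g⁻¹ * q⁻¹ * g := by rw [inv hA hm g hg, inv (pt_card S b) hn q hq, inv_inv]
    rw [e2] at e1
    have e3 := congrArg (fun z => g * z⁻¹ * g) e1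
    simp only [mul_inv_rev, inv_inv, mul_assoc, mul_inv_cancel_left, inv_mul_cancel, mul_one] at e3
    rw [pow_two]
    simpa [mul_assoc] using e3.symm
  have h4 := (isLine S hall hab).eq_one_of_mem (a.1.pow_mem hg 2) (cj_fix_of_centralises hb2)
  exact absurd (Nat.le_of_dvd (by norm_num) (orderOf_dvd_of_pow_eq_one h4)) (by omega)

theorem line_four' {a b : S.Pt} (hab : a ≠ b) {x s : G}
    (hxL : ∀ c ∈ lineSet S a b, x • c ∈ lineSet S a b)
    (hsL : ∀ c ∈ lineSet S a b, s • c ∈ lineSet S a b) (hxs : x * s = s * x) (hs2 : s * s = 1)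
    (hx4 : ∀ c ∈ lineSet S a b, (x * x * (x * x)) • c = c)
    (hsf : ∀ c ∈ lineSet S a b, s • c ≠ c) (hxf : ∀ c ∈ lineSet S a b, (x * x) • c ≠ c)
    (hxsf : ∀ c ∈ lineSet S a b, (x * x * s) • c ≠ c) : False := by
  have hl := isLine S hall hab
  have haL := line_left' S a b
  have norm : ∀ {g : G}, (∀ c ∈ lineSet S a b, g • c ∈ lineSet S a b) →
      cj g (span S a b) = span S a b := by
    intro g hg
    rw [span, cj_sup, ← pt_smul_val, ← pt_smul_val]
    exact hl.sup_eq (pt_card S _) (pt_card S _) (hg a haL) (hg b (line_right' S a b))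
      fun e => hab (smul_left_cancel g (Subtype.ext e))
  have hxx : ∀ c ∈ lineSet S a b, (x * x) • c ∈ lineSet S a b := fun c hc => by
    rw [mul_smul]; exact hxL _ (hxL c hc)
  have hx4a := centralises_of_fix_line S hall hab hx4
  have hx4b := wgp_sym S hall hab hx4a (hx4 b (line_right' S a b))
  have hsq : ∀ z ∈ span S a b, x * x * (x * x * z * (x * x)⁻¹) * (x * x)⁻¹ = z := by
    intro z hz
    have hle : span S a b ≤ Subgroup.centralizer ({x * x * (x * x)} : Set G) :=
      sup_le (fun q hq =>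
        Subgroup.mem_centralizer_singleton_iff.mpr ((mem_wgp S).mp hx4a q hq).symm)
        fun q hq => Subgroup.mem_centralizer_singleton_iff.mpr ((mem_wgp S).mp hx4b q hq).symm
    have e := (Subgroup.mem_centralizer_singleton_iff.mp (hle hz)).symm
    calc x * x * (x * x * z * (x * x)⁻¹) * (x * x)⁻¹
        = (x * x * (x * x) * z) * (x * x * (x * x))⁻¹ := by group
      _ = z := by rw [e, mul_inv_cancel_right]
  -- inner witnesses
  have wit : ∀ g : G, (∀ c ∈ lineSet S a b, g • c ∈ lineSet S a b) →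
      (∀ c ∈ lineSet S a b, g • c ≠ c) →
      (∀ z ∈ span S a b, g * (g * z * g⁻¹) * g⁻¹ = z) →
      ∃ k ∈ span S a b, k ≠ 1 ∧ k * k = 1 ∧ ∀ z ∈ span S a b, g * z * g⁻¹ = k * z * k⁻¹ := by
    intro g hg hgf hg2
    have hd := hg a haL
    have hda : a ≠ g • a := (hgf a haL).symm
    have hspan : span S a (g • a) = span S a b :=
      hl.sup_eq (pt_card S _) (pt_card S _) haL hd fun e => hda (Subtype.ext e)
    have hback : g • g • a = a := by
      refine Subtype.ext ?_
      rw [pt_smul_val, pt_smul_val]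
      ext z
      rw [mem_cj, mem_cj]
      constructor
      · intro hz
        have h1 := hg2 _ (hl.leA hz)
        rw [show z = g * (g * (g⁻¹ * (g⁻¹ * z * g) * g) * g⁻¹) * g⁻¹ by group, h1]
        exact hz
      · intro hz
        have h1 := hg2 z (hl.leA hz)
        rw [show g⁻¹ * (g⁻¹ * z * g) * g = z from by
          conv_lhs => rw [← h1]
          group]
        exact hz
    obtain ⟨k, hk, hke⟩ := (isLine S hall hda).outer_swap (g := g)
      (fun z hz => hg2 z (hspan ▸ hz)) rfl (congrArg Subtype.val hback) (fun C hC hCL e => by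
        obtain ⟨c, rfl⟩ := exists_pt_of_le S hall hab hC (hspan ▸ hCL)
        exact hgf c (hspan ▸ hCL : c.1 ≤ span S a b) (Subtype.ext e))
    rw [hspan] at hk hke
    refine ⟨k, hk, ?_, ?_, hke⟩
    · rintro rfl
      refine hgf a haL (Subtype.ext (cj_fix_of_centralises fun p hp => ?_))
      have := hke p (hl.leA hp)
      rw [one_mul, inv_one, mul_one, mul_inv_eq_iff_eq_mul] at this
      exact this
    · refine hl.inner_inj (Subgroup.mul_mem _ hk hk) (Subgroup.one_mem _) fun z hz => ?_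
      have := hg2 z hz
      rw [hke z hz, hke _ (Subgroup.mul_mem _ (Subgroup.mul_mem _ hk hz)
        (Subgroup.inv_mem _ hk))] at this
      calc k * k * z * (k * k)⁻¹ = k * (k * z * k⁻¹) * k⁻¹ := by group
        _ = 1 * z * 1⁻¹ := by rw [this, one_mul, inv_one, mul_one]
  obtain ⟨e, heL, he1, he2, hee⟩ := wit (x * x) hxx hxf hsq
  obtain ⟨f, hfL, hf1, hf2, hfe⟩ := wit s hsL hsf (fun z _ => by
    calc s * (s * z * s⁻¹) * s⁻¹ = (s * s) * z * (s * s)⁻¹ := by group
      _ = z := by simp [hs2])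
  have hx2s : x * x * s = s * (x * x) := by rw [mul_assoc, hxs, ← mul_assoc, hxs, mul_assoc]
  have hef : e ≠ f := by
    rintro rfl
    refine hxsf a haL (Subtype.ext (cj_fix_of_centralises fun p hp => ?_))
    have hp' := hl.leA hp
    have h1 : (x * x * s) * p * (x * x * s)⁻¹ = p := by
      calc (x * x * s) * p * (x * x * s)⁻¹ = x * x * (s * p * s⁻¹) * (x * x)⁻¹ := by group
        _ = x * x * (e * p * e⁻¹) * (x * x)⁻¹ := by rw [hfe p hp']
        _ = x * x * (x * x * p * (x * x)⁻¹) * (x * x)⁻¹ := by rw [hee p hp']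
        _ = p := hsq p hp'
    rwa [mul_inv_eq_iff_eq_mul] at h1
  have memL : ∀ {g : G}, cj g (span S a b) = span S a b → ∀ z ∈ span S a b,
      g * z * g⁻¹ ∈ span S a b := by
    intro g hg z hz
    rw [← hg, mem_cj]
    simpa [mul_assoc] using hz
  have hc : e * f = f * e := by
    refine hl.inner_inj (Subgroup.mul_mem _ heL hfL) (Subgroup.mul_mem _ hfL heL) fun z hz => ?_
    calc e * f * z * (e * f)⁻¹ = e * (f * z * f⁻¹) * e⁻¹ := by group
      _ = x * x * (f * z * f⁻¹) * (x * x)⁻¹ :=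
          (hee _ (Subgroup.mul_mem _ (Subgroup.mul_mem _ hfL hz) (Subgroup.inv_mem _ hfL))).symm
      _ = x * x * (s * z * s⁻¹) * (x * x)⁻¹ := by rw [hfe z hz]
      _ = (x * x * s) * z * (x * x * s)⁻¹ := by group
      _ = (s * (x * x)) * z * (s * (x * x))⁻¹ := by rw [hx2s]
      _ = s * (x * x * z * (x * x)⁻¹) * s⁻¹ := by group
      _ = f * (e * z * e⁻¹) * f⁻¹ := by rw [hfe _ (memL (norm hxx) z hz), hee z hz]
      _ = f * e * z * (f * e)⁻¹ := by group
  have fixes : ∀ {g k : G}, k ∈ span S a b → (∀ z ∈ span S a b, g * z * g⁻¹ = k * z * k⁻¹) →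
      x * g = g * x → x * k * x⁻¹ = k := by
    intro g k hk hgk hxg
    refine hl.inner_inj (memL (norm hxL) k hk) hk fun z hz => ?_
    have hz' : x⁻¹ * z * x ∈ span S a b := by
      rw [← norm hxL, mem_cj] at hz
      exact hz
    calc x * k * x⁻¹ * z * (x * k * x⁻¹)⁻¹ = x * (k * (x⁻¹ * z * x) * k⁻¹) * x⁻¹ := by group
      _ = x * (g * (x⁻¹ * z * x) * g⁻¹) * x⁻¹ := by rw [hgk _ hz']
      _ = (x * g) * x⁻¹ * z * x * (x * g)⁻¹ := by group
      _ = (g * x) * x⁻¹ * z * x * (g * x)⁻¹ := by rw [hxg]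
      _ = k * z * k⁻¹ := by rw [← hgk z hz]; group
  have h4 := l2_cent_four (hall a b hab) (e := ⟨e, heL⟩) (f := ⟨f, hfL⟩) (Subtype.ext he2)
    (Subtype.ext hf2) (fun h => he1 (congrArg Subtype.val h))
    (fun h => hf1 (congrArg Subtype.val h)) (fun h => hef (congrArg Subtype.val h))
    (Subtype.ext hc) (restrictConj x (norm hxL))
    (Subtype.ext (fixes heL hee (mul_assoc x x x).symm)) (Subtype.ext (fixes hfL hfe hxs))
  refine hxf a haL (Subtype.ext (cj_fix_of_centralises fun p hp => ?_))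
  have h5 := congrArg Subtype.val (h4 ⟨p, hl.leA hp⟩)
  simp only [restrictConj_apply] at h5
  have h6 : (x * x) * p * (x * x)⁻¹ = p := by
    calc (x * x) * p * (x * x)⁻¹ = x * (x * p * x⁻¹) * x⁻¹ := by group
      _ = p := h5
  rwa [mul_inv_eq_iff_eq_mul] at h6

theorem line_invol' {a b : S.Pt} (hab : a ≠ b) {w : G} (hw2 : w * w = 1) (hwa : w • a = b)
    (hwb : w • b = a) (hwf : ∀ c ∈ lineSet S a b, w • c ≠ c) :
    ∃ (s : G) (c : S.Pt), c ∈ lineSet S a b ∧ s • c ∈ lineSet S a b ∧ s • c ≠ c ∧ s * s = 1 ∧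
      s * w = w * s ∧ (∃ d ∈ lineSet S a b, s • d ≠ w • d) ∧ (∀ d ∈ lineSet S a b, s • d ≠ d) ∧
      ∀ x : G, x ∈ wgp S a → x • b = b → x * s = s * x := by
  have hl := isLine S hall hab
  have cent : ∀ x : G, x ∈ wgp S a → x • b = b → ∀ l ∈ span S a b, x * l = l * x := by
    intro x hx hb l hl'
    have hle : span S a b ≤ Subgroup.centralizer ({x} : Set G) :=
      sup_le (fun q hq => Subgroup.mem_centralizer_singleton_iff.mpr ((mem_wgp S).mp hx q hq).symm)
        fun q hq => Subgroup.mem_centralizer_singleton_iff.mpr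
          ((mem_wgp S).mp (wgp_sym S hall hab hx hb) q hq).symm
    exact (Subgroup.mem_centralizer_singleton_iff.mp (hle hl')).symm
  obtain ⟨k, hkL, hk⟩ := hl.outer_swap (g := w) (fun z _ => by
      calc w * (w * z * w⁻¹) * w⁻¹ = (w * w) * z * (w * w)⁻¹ := by group
        _ = z := by simp [hw2])
    ((pt_smul_eq_iff S).mp hwa) ((pt_smul_eq_iff S).mp hwb) (fun C hC hCL e => by
      obtain ⟨c, rfl⟩ := exists_pt_of_le S hall hab hC hCL
      exact hwf c hCL (Subtype.ext e))
  have hkc : ∀ p ∈ span S a b, (k⁻¹ * w) * p = p * (k⁻¹ * w) := by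
    intro p hp
    calc (k⁻¹ * w) * p = k⁻¹ * (w * p * w⁻¹) * w := by group
      _ = k⁻¹ * (k * p * k⁻¹) * w := by rw [hk p hp]
      _ = p * (k⁻¹ * w) := by group
  have hk2 : k * k = 1 := by
    refine hl.inner_inj (Subgroup.mul_mem _ hkL hkL) (Subgroup.one_mem _) fun z hz => ?_
    have hz' : k * z * k⁻¹ ∈ span S a b :=
      Subgroup.mul_mem _ (Subgroup.mul_mem _ hkL hz) (Subgroup.inv_mem _ hkL)
    calc k * k * z * (k * k)⁻¹ = k * (k * z * k⁻¹) * k⁻¹ := by group
      _ = w * (w * z * w⁻¹) * w⁻¹ := by rw [← hk _ hz', ← hk z hz]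
      _ = (w * w) * z * (w * w)⁻¹ := by group
      _ = 1 * z * 1⁻¹ := by rw [hw2]
  have hk1 : k ≠ 1 := by
    rintro rfl
    refine hwf a (line_left' S a b) (Subtype.ext (cj_fix_of_centralises fun p hp => ?_))
    have := hk p (hl.leA hp)
    rw [one_mul, inv_one, mul_one, mul_inv_eq_iff_eq_mul] at this
    exact this
  obtain ⟨⟨s, hsL⟩, hs2, hs1, hsk, hsc⟩ := l2_second_invol (hall a b hab) (w := ⟨k, hkL⟩)
    (Subtype.ext hk2) (fun h => hk1 (congrArg Subtype.val h))
  have hs2' : s * s = 1 := congrArg Subtype.val hs2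
  have hs1' : s ≠ 1 := fun h => hs1 (Subtype.ext h)
  have hsc' : s * k = k * s := congrArg Subtype.val hsc
  have hsf : ∀ d ∈ lineSet S a b, s • d ≠ d := fun d hd e =>
    hs1' (hl.fpf hsL hs2' (pt_card S d) hd (congrArg Subtype.val e))
  refine ⟨s, a, line_left' S a b, cj_le_of_mem hsL le_sup_left, hsf a (line_left' S a b), hs2', ?_,
    ?_, hsf, fun x hx hb => cent x hx hb s hsL⟩
  · calc s * w = (s * k) * (k⁻¹ * w) := by group
      _ = k * (s * (k⁻¹ * w)) := by rw [hsc', mul_assoc]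
      _ = k * ((k⁻¹ * w) * s) := by rw [hkc s hsL]
      _ = w * s := by group
  · refine ⟨a, line_left' S a b, fun e => ?_⟩
    have hka : cj k a.1 = cj w a.1 := by
      ext z
      constructor
      · rintro ⟨p, hp, rfl⟩
        exact ⟨p, hp, (hk p (hl.leA hp))⟩
      · rintro ⟨p, hp, rfl⟩
        exact ⟨p, hp, (hk p (hl.leA hp)).symm⟩
    have hsa : cj (k * s) a.1 = a.1 := by
      rw [← cj_cj, show cj s a.1 = cj w a.1 from congrArg Subtype.val e, ← hka, cj_cj, hk2, cj_one]
    have h1 : (k * s) * (k * s) = 1 := by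
      calc (k * s) * (k * s) = k * (s * k) * s := by group
        _ = (k * k) * (s * s) := by rw [hsc']; group
        _ = 1 := by rw [hk2, hs2', one_mul]
    have h2 := hl.fpf (Subgroup.mul_mem _ hkL hsL) h1 (pt_card S a) (line_left' S a b) hsa
    exact hsk (Subtype.ext (calc s = (k * k) * s := by rw [hk2, one_mul]
      _ = k * (k * s) := by group
      _ = k := by rw [h2, mul_one]))

end H21.Eleven
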