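import Cfsg.Agent.H21.Eleven.Line
import Cfsg.Agent.H63.Eleven.FactsJ

/-!
Points and lines of a system all of whose lines are `L₂(11)` (helper21).
-/

set_option autoImplicit false

namespace H21.Eleven

open H63.Eleven MulAction

universe u

variable {G : Type u} [Group G] (S : Sys G)

theorem pt_smul_val (g : G) (a : S.Pt) : (g • a).1 = cj g a.1 := rfl

theorem pt_smul_eq_iff {g : G} {a b : S.Pt} : g • a = b ↔ cj g a.1 = b.1 := Subtype.ext_iff

theorem pt_card (a : S.Pt) : Nat.card a.1 = 11 := by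
  obtain ⟨g, hg⟩ := a.2
  rw [← hg]
  exact (card_cj g S.P).trans S.card_P

theorem pt_trans (a b : S.Pt) : ∃ g : G, g • a = b := by
  obtain ⟨g, hg⟩ := a.2
  obtain ⟨k, hk⟩ := b.2
  refine ⟨k * g⁻¹, Subtype.ext ?_⟩
  rw [pt_smul_val, ← hg, ← hk, cj_cj, inv_mul_cancel_right]

/-- The centraliser of a point. -/
def wgp (a : S.Pt) : Subgroup G := Subgroup.centralizer (a.1 : Set G)

theorem mem_wgp {a : S.Pt} {x : G} : x ∈ wgp S a ↔ Centralises x a.1 :=
  Subgroup.mem_centralizer_iff.trans ⟨fun h p hp => (h p hp).symm, fun h p hp => (h p hp).symm⟩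

theorem fix_of_wgp {a : S.Pt} {x : G} (h : x ∈ wgp S a) : x • a = a :=
  Subtype.ext (cj_fix_of_centralises ((mem_wgp S).mp h))

theorem wgp_conj {g x : G} {a : S.Pt} (h : x ∈ wgp S a) : g * x * g⁻¹ ∈ wgp S (g • a) := by
  rw [mem_wgp] at h ⊢
  intro p hp
  rw [pt_smul_val, mem_cj] at hp
  have := congrArg (fun z => g * z * g⁻¹) (h _ hp)
  simpa [mul_assoc] using this

theorem mult_pt {a : S.Pt} {x : G} (h : x • a = a) : ∃ m, Mult x a.1 m :=
  exists_mult (pt_card S a) ((pt_smul_eq_iff S).mp h)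

/-- The subgroup spanned by two points. -/
abbrev span (a b : S.Pt) : Subgroup G := a.1 ⊔ b.1

theorem isLine (hall : S.AllL2) {a b : S.Pt} (hab : a ≠ b) : IsLine a.1 b.1 (span S a b) :=
  ⟨pt_card S a, pt_card S b, fun e => hab (Subtype.ext e), rfl, hall a b hab⟩

variable [Finite G] (hall : S.AllL2)
include hall

theorem exists_pt_of_le {a b : S.Pt} (hab : a ≠ b) {C : Subgroup G} (hC : Nat.card C = 11)
    (hCL : C ≤ span S a b) : ∃ c : S.Pt, c.1 = C := by
  obtain ⟨k, -, hk⟩ := (isLine S hall hab).exists_conj hC hCL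
  exact ⟨k • a, hk⟩

theorem mult_pair {a b : S.Pt} (hab : a ≠ b) {x : G} (ha : x • a = a) (hb : x • b = b)
    {m n : ZMod 11} (hm : Mult x a.1 m) (hn : Mult x b.1 n) : m * n = 1 :=
  (isLine S hall hab).mult ((pt_smul_eq_iff S).mp ha) ((pt_smul_eq_iff S).mp hb) hm hn

theorem wgp_sym {a b : S.Pt} (hab : a ≠ b) {x : G} (hx : x ∈ wgp S a) (hb : x • b = b) :
    x ∈ wgp S b := by
  obtain ⟨n, hn⟩ := mult_pt S hb
  have h := mult_pair S hall hab (fix_of_wgp S hx) hb (mult_one_iff.mpr ((mem_wgp S).mp hx)) hn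
  rw [one_mul] at h
  subst h
  exact (mem_wgp S).mpr (mult_one_iff.mp hn)

/-- An element fixing three points has square centralising each. -/
theorem three_sq {a b c : S.Pt} (hab : a ≠ b) (hac : a ≠ c) (hbc : b ≠ c) {x : G}
    (ha : x • a = a) (hb : x • b = b) (hc : x • c = c) : x ^ 2 ∈ wgp S a := by
  obtain ⟨m, hm⟩ := mult_pt S ha
  obtain ⟨n, hn⟩ := mult_pt S hb
  obtain ⟨k, hk⟩ := mult_pt S hc
  have h1 := mult_pair S hall hab ha hb hm hn
  have h2 := mult_pair S hall hac ha hc hm hk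
  have h3 := mult_pair S hall hbc hb hc hn hk
  have hm2 : m ^ 2 = 1 := by linear_combination m * k * h1 + h2 - m ^ 2 * h3
  have := Mult.pow (pt_card S a) hm 2
  rw [hm2] at this
  exact (mem_wgp S).mpr (mult_one_iff.mp this)

omit hall [Finite G] in
theorem five_of_sq {a : S.Pt} {x : G} (h5 : x ^ 5 = 1) (h2 : x ^ 2 ∈ wgp S a) : x ∈ wgp S a := by
  have h := (wgp S a).pow_mem h2 3
  rw [← pow_mul, show 2 * 3 = 5 + 1 from rfl, pow_add, h5, one_mul, pow_one] at h
  exact h

theorem five_fix_two {a b c : S.Pt} (hab : a ≠ b) {y : G} (hy : orderOf y = 5)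
    (hyL : y ∈ span S a b) (ha : y • a = a) (hb : y • b = b) (hc : y • c = c) :
    c = a ∨ c = b := by
  by_contra hne
  push Not at hne
  have h5 : y ^ 5 = 1 := hy ▸ pow_orderOf_eq_one y
  have := five_of_sq S h5 (three_sq S hall hab hne.1.symm hne.2.symm ha hb hc)
  have h1 := (isLine S hall hab).eq_one_of_fix_five hyL ((mem_wgp S).mp this) h5
  rw [h1, orderOf_one] at hy
  norm_num at hy

theorem pt_fix_unique {a b : S.Pt} {x : G} (hx : x ∈ a.1) (h1 : x ≠ 1) (hb : x • b = b) :
    b = a := by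
  by_contra hne
  exact h1 ((isLine S hall (Ne.symm hne)).eq_one_of_mem hx ((pt_smul_eq_iff S).mp hb))

/-- No subgroup containing a point is `J₁`. -/
theorem not_j1 {K : Subgroup G} {a : S.Pt} (haK : a.1 ≤ K) : ¬ Cfsg.Spor.IsoJ1 K := by
  intro hJ
  haveI : Fact (Nat.Prime 11) := ⟨by norm_num⟩
  have hA : Nat.card (a.1.subgroupOf K) = 11 := (card_subgroupOf haK).trans (pt_card S a)
  have hf : 11 ^ (Nat.card K).factorization 11 = 11 := by
    have h11 : (175560 : ℕ).factorization 11 = 1 := by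
      rw [show (175560 : ℕ) = 11 * 15960 from rfl,
        Nat.factorization_mul (by norm_num) (by norm_num), Finsupp.add_apply,
        Nat.Prime.factorization_self (by norm_num),
        Nat.factorization_eq_zero_of_not_dvd (by norm_num)]
    rw [j1_card hJ, h11, pow_one]
  let T := {A : Subgroup K // Nat.card A = 11}
  let A₀ : T := ⟨a.1.subgroupOf K, hA⟩
  let N : Subgroup K := Subgroup.normalizer ((a.1.subgroupOf K : Subgroup K) : Set K)
  have key : ∀ B : {B : T // B ≠ A₀}, ∃ (b : S.Pt) (y : N), a ≠ b ∧ b.1 ≤ K ∧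
      b.1.subgroupOf K = B.1.1 ∧ orderOf ((y : K) : G) = 5 ∧ ((y : K) : G) ∈ span S a b ∧
      ((y : K) : G) • a = a ∧ ((y : K) : G) • b = b := by
    rintro ⟨⟨B, hB⟩, hne⟩
    obtain ⟨k, hk⟩ := MulAction.exists_smul_eq K
      (Sylow.ofCard (a.1.subgroupOf K) (hA.trans hf.symm)) (Sylow.ofCard B (hB.trans hf.symm))
    have hk' : cj k (a.1.subgroupOf K) = B := by
      have := congrArg (fun U : Sylow 11 K => (U : Subgroup K)) hk
      simp [Sylow.coe_ofCard, Sylow.coe_subgroup_smul, Subgroup.pointwise_smul_def] at this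
      exact this
    rw [cj_subgroupOf] at hk'
    have hbK : ((k : G) • a).1 ≤ K := cj_le_of_mem k.2 haK
    have hab : a ≠ (k : G) • a := fun e => hne (Subtype.ext (by
      show B = a.1.subgroupOf K
      rw [← hk', ← pt_smul_val, ← e]))
    obtain ⟨y, hyL, hy5, hya, hyb, -⟩ := (isLine S hall hab).exists_five
    have hyK : y ∈ K := (sup_le haK hbK : span S a ((k : G) • a) ≤ K) hyL
    exact ⟨(k : G) • a, ⟨⟨y, hyK⟩, mem_normalizer_iff_cj.mpr (cj_subgroupOf_eq _ hya)⟩, hab, hbK,
      hk', hy5, hyL, Subtype.ext hya, Subtype.ext hyb⟩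
  choose f g hf1 hf2 hf3 hg5 hgL hga hgb using key
  have hinj : Function.Injective g := by
    intro B B' e
    by_contra hne
    have hbb : f B ≠ f B' := fun e' => hne (Subtype.ext (Subtype.ext (by
      rw [← hf3 B, e', hf3 B'])))
    rcases five_fix_two S hall (hf1 B) (hg5 B) (hgL B) (hga B) (hgb B) (c := f B')
        (by rw [e]; exact hgb B') with h | h
    · exact hf1 B' h.symm
    · exact hbb h.symm
  have h1 : Nat.card {B : T // B ≠ A₀} ≤ Nat.card N := Nat.card_le_card_of_injective g hinj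
  have h2 : Nat.card T = 1 + Nat.card {B : T // B ≠ A₀} := by
    classical
    have := Nat.card_congr (Equiv.optionSubtypeNe A₀)
    rw [Finite.card_option] at this
    omega
  rw [show Nat.card T = 1596 from j1_card_sylow hJ] at h2
  rw [show Nat.card N = 110 from j1_normalizer hJ hA] at h1
  omega

include S in
omit hall [Finite G] in
theorem center_eq_bot (hG : IsSimpleGroup G) : Subgroup.center G = ⊥ := by
  rcases hG.eq_bot_or_eq_top_of_normal (Subgroup.center G) inferInstance with h | h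
  · exact h
  · obtain ⟨g, hg⟩ := S.moved
    refine absurd (cj_fix_of_centralises fun p _ => ?_) hg
    exact (Subgroup.mem_center_iff.mp (h ▸ Subgroup.mem_top p : p ∈ Subgroup.center G) g)

/-- The fixed points of an element centralising a line are the points of the line. -/
theorem fix_line (hG : IsSimpleGroup G) (hsub : S.SubHyp) {a b c : S.Pt} (hab : a ≠ b) {x : G}
    (hx : x ∈ wgp S a) (hb : x • b = b) (h1 : x ≠ 1) :
    x • c = c ↔ c.1 ≤ span S a b := by
  have hxb := wgp_sym S hall hab hx hb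
  constructor
  · intro hc
    by_contra hcL
    have hac : a ≠ c := fun e => hcL (e ▸ le_sup_left)
    have hxc := wgp_sym S hall hac hx hc
    let T : Set (Subgroup G) := {a.1, b.1, c.1}
    have hT : T ⊆ S.pts := by
      rintro Q (rfl | rfl | rfl)
      exacts [a.2, b.2, c.2]
    have hle : sSup T ≤ Subgroup.centralizer ({x} : Set G) := by
      refine sSup_le ?_
      rintro Q (rfl | rfl | rfl) q hq <;> refine Subgroup.mem_centralizer_singleton_iff.mpr ?_
      exacts [((mem_wgp S).mp hx q hq).symm, ((mem_wgp S).mp hxb q hq).symm,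
        ((mem_wgp S).mp hxc q hq).symm]
    have htop : sSup T ≠ ⊤ := by
      intro e
      rw [e, top_le_iff] at hle
      refine h1 ?_
      rw [← Subgroup.mem_bot, ← center_eq_bot S hG, Subgroup.mem_center_iff]
      exact fun g => Subgroup.mem_centralizer_singleton_iff.mp (hle ▸ Subgroup.mem_top g)
    have haT : a.1 ≤ sSup T := le_sSup (by simp [T])
    have hbT : b.1 ≤ sSup T := le_sSup (by simp [T])
    rcases hsub T hT ⟨a.1, by simp [T], b.1, by simp [T], fun e => hab (Subtype.ext e)⟩ htop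
      with h | h
    · have e : span S a b = sSup T := Subgroup.eq_of_le_of_card_ge (sup_le haT hbT)
        ((l2_card h).trans (isLine S hall hab).card.symm).le
      exact hcL (e.symm ▸ le_sSup (by simp [T]))
    · exact not_j1 S hall haT h
  · intro hc
    refine Subtype.ext (cj_fix_of_centralises fun p hp => ?_)
    have hle : span S a b ≤ Subgroup.centralizer ({x} : Set G) :=
      sup_le (fun q hq => Subgroup.mem_centralizer_singleton_iff.mpr ((mem_wgp S).mp hx q hq).symm)
        fun q hq => Subgroup.mem_centralizer_singleton_iff.mpr ((mem_wgp S).mp hxb q hq).symm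
    exact (Subgroup.mem_centralizer_singleton_iff.mp (hle (hc hp))).symm

/-- An element of order five in a two-point stabiliser, with its swapping involution. -/
theorem exists_frame {a b : S.Pt} (hab : a ≠ b) :
    ∃ y w : G, orderOf y = 5 ∧ y ∈ span S a b ∧ y • a = a ∧ y • b = b ∧ w ∈ span S a b ∧
      w * w = 1 ∧ w • a = b ∧ w • b = a ∧ w * y * w⁻¹ = y⁻¹ ∧
      (∀ c, y • c = c → c = a ∨ c = b) ∧
      (∀ x : G, x ∈ wgp S a → x • b = b → x * y = y * x ∧ x * w = w * x) ∧
      (∀ x : G, x ∈ wgp S a → x • b = b → ∀ (i : ℕ), ¬ 5 ∣ i →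
        ∀ c, (y ^ i * x) • c = c → c = a ∨ c = b) ∧
      (∀ t : G, t • a = a → t • b = b → t * y = y * t) ∧
      (∀ c : S.Pt, c.1 ≤ span S a b → w • c ≠ c) ∧
      (∀ g : G, g * g = 1 → g • a = b → g • b = a →
        (∀ c : S.Pt, c.1 ≤ span S a b → g • c ≠ c) →
        ∃ (i : ℕ) (x : G), x ∈ wgp S a ∧ x • b = b ∧ g = w * y ^ i * x) ∧
      (∀ t : G, t * t = 1 → t • a = a → t • b = b → t ∉ wgp S a → t * w = w * t) := by
  have hl := isLine S hall hab
  obtain ⟨y, hyL, hy5, hya, hyb, hgen⟩ := hl.exists_five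
  obtain ⟨w, hwL, hw2, hwA, hwB, hwy, hwt⟩ := hl.exists_swap
  have hya' : y • a = a := Subtype.ext hya
  have hyb' : y • b = b := Subtype.ext hyb
  have h5 : y ^ 5 = 1 := hy5 ▸ pow_orderOf_eq_one y
  have hcomm : ∀ x : G, x ∈ wgp S a → x • b = b → ∀ l ∈ span S a b, x * l = l * x := by
    intro x hx hb l hl'
    have hle : span S a b ≤ Subgroup.centralizer ({x} : Set G) :=
      sup_le (fun q hq => Subgroup.mem_centralizer_singleton_iff.mpr ((mem_wgp S).mp hx q hq).symm)
        fun q hq => Subgroup.mem_centralizer_singleton_iff.mpr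
          ((mem_wgp S).mp (wgp_sym S hall hab hx hb) q hq).symm
    exact (Subgroup.mem_centralizer_singleton_iff.mp (hle hl')).symm
  have hw1 : w ≠ 1 := fun e => hab (by
    refine Subtype.ext ?_
    rw [← hwA, e, cj_one])
  have hwfpf : ∀ c : S.Pt, c.1 ≤ span S a b → w • c ≠ c := fun c hc e =>
    hw1 (hl.fpf hwL hw2 (pt_card S c) hc (congrArg Subtype.val e))
  refine ⟨y, w, hy5, hyL, hya', hyb', hwL, hw2, Subtype.ext hwA, Subtype.ext hwB,
    hwy y hyL hya hyb, fun c hc => five_fix_two S hall hab hy5 hyL hya' hyb' hc,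
    fun x hx hb => ⟨hcomm x hx hb y hyL, hcomm x hx hb w hwL⟩, ?_, ?_, hwfpf, ?_, ?_⟩
  · intro x hx hb i hi c hc
    by_contra hne
    push Not at hne
    have hfa : (y ^ i * x) • a = a := by
      rw [mul_smul, fix_of_wgp S hx]
      exact (stabilizer G a).pow_mem hya' i
    have hfb : (y ^ i * x) • b = b := by
      rw [mul_smul, hb]
      exact (stabilizer G b).pow_mem hyb' i
    have h := three_sq S hall hab hne.1.symm hne.2.symm hfa hfb hc
    have hc1 : Commute (y ^ i) x :=
      (Commute.pow_right (show Commute x y from hcomm x hx hb y hyL) i).symm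
    rw [hc1.mul_pow] at h
    have h2 : (y ^ i) ^ 2 ∈ wgp S a :=
      ((wgp S a).mul_mem_cancel_right ((wgp S a).pow_mem hx 2)).mp h
    have h3 := hl.eq_one_of_fix_five (Subgroup.pow_mem _ hyL i)
      ((mem_wgp S).mp (five_of_sq S (by rw [← pow_mul, mul_comm, pow_mul, h5, one_pow]) h2))
      (by rw [← pow_mul, mul_comm, pow_mul, h5, one_pow])
    exact hi (hy5 ▸ orderOf_dvd_of_pow_eq_one h3)
  · intro t hta htb
    have tA := (pt_smul_eq_iff S).mp hta
    have tB := (pt_smul_eq_iff S).mp htb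
    have hk : t * y * t⁻¹ * y⁻¹ ∈ span S a b := by
      refine Subgroup.mul_mem _ ?_ (Subgroup.inv_mem _ hyL)
      have := hl.cj_line tA tB
      rw [← this, mem_cj]
      simpa [mul_assoc] using hyL
    have hfix : ∀ p : S.Pt, t • p = p → y • p = p → (t * y * t⁻¹ * y⁻¹) • p = p := by
      intro p ht hy
      rw [mul_smul, mul_smul, mul_smul, inv_smul_eq_iff.mpr hy.symm, inv_smul_eq_iff.mpr ht.symm,
        hy, ht]
    have := hl.eq_one_of_fix_five hk (comm_centralises (pt_card S a) tA hya)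
      (hl.pow_five hk ((pt_smul_eq_iff S).mp (hfix a hta hya'))
        ((pt_smul_eq_iff S).mp (hfix b htb hyb')))
    rwa [mul_inv_eq_one, mul_inv_eq_iff_eq_mul] at this
  · intro g hg2 hga hgb hfpf
    have gA := (pt_smul_eq_iff S).mp hga
    have gB := (pt_smul_eq_iff S).mp hgb
    obtain ⟨k, hkL, hk⟩ := hl.outer_swap (fun z _ => by
      calc g * (g * z * g⁻¹) * g⁻¹ = (g * g) * z * (g * g)⁻¹ := by group
        _ = z := by simp [hg2]) gA gB (fun C hC hCL e => by
      obtain ⟨c, rfl⟩ := exists_pt_of_le S hall hab hC hCL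
      exact hfpf c hCL (Subtype.ext e))
    have hkc : ∀ p ∈ span S a b, (k⁻¹ * g) * p = p * (k⁻¹ * g) := by
      intro p hp
      have := hk p hp
      calc (k⁻¹ * g) * p = k⁻¹ * (g * p * g⁻¹) * g := by group
        _ = k⁻¹ * (k * p * k⁻¹) * g := by rw [this]
        _ = p * (k⁻¹ * g) := by group
    have hxW : k⁻¹ * g ∈ wgp S a := (mem_wgp S).mpr fun p hp => hkc p (hl.leA hp)
    have hxb : (k⁻¹ * g) • b = b :=
      Subtype.ext (cj_fix_of_centralises fun p hp => hkc p (hl.leB hp))
    have hka : k • a = b := by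
      have := fix_of_wgp S hxW
      rw [mul_smul, hga, inv_smul_eq_iff] at this
      exact this.symm
    have hkb : k • b = a := by
      rw [mul_smul, hgb, inv_smul_eq_iff] at hxb
      exact hxb.symm
    obtain ⟨i, hi⟩ := hgen (w * k) (Subgroup.mul_mem _ hwL hkL)
      ((pt_smul_eq_iff S).mp (by rw [mul_smul, hka]; exact Subtype.ext hwB))
      ((pt_smul_eq_iff S).mp (by rw [mul_smul, hkb]; exact Subtype.ext hwA))
    refine ⟨i, k⁻¹ * g, hxW, hxb, ?_⟩
    rw [← hi]
    calc g = (w * w) * g := by rw [hw2, one_mul]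
      _ = w * (w * k) * (k⁻¹ * g) := by group
  · intro t ht2 hta htb htW
    obtain ⟨m, hm⟩ := mult_pt S hta
    obtain ⟨n, hn⟩ := mult_pt S htb
    have h1 := Mult.mul (pt_card S a) hm hm
    rw [ht2] at h1
    have hm2 : m * m = 1 := Mult.unique (pt_card S a) h1 (mult_one (pt_card S a))
    have hm1 : m = -1 := (mul_self_eq_one_iff.mp hm2).resolve_left fun e =>
      htW ((mem_wgp S).mpr (mult_one_iff.mp (e ▸ hm)))
    have hn1 : n = -1 := by
      have := mult_pair S hall hab hta htb hm hn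
      rw [hm1] at this
      linear_combination -this
    exact hwt t (hm1 ▸ hm) (hn1 ▸ hn) ((pt_smul_eq_iff S).mp hta) ((pt_smul_eq_iff S).mp htb)

end H21.Eleven
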