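import Cfsg.Agent.H21.Eleven.Mult
import Cfsg.Agent.H63.Eleven.FactsL

/-!
A line `A ⊔ B ≅ L₂(11)` seen inside the ambient group (helper21).
-/

set_option autoImplicit false

namespace H21.Eleven

open H63.Eleven

universe u

variable {G : Type u} [Group G]

theorem subgroupOf_inj {L A B : Subgroup G} (hA : A ≤ L) (hB : B ≤ L)
    (h : A.subgroupOf L = B.subgroupOf L) : A = B := by
  rw [← inf_eq_left.mpr hA, ← inf_eq_left.mpr hB]
  exact Subgroup.subgroupOf_inj.mp h

theorem card_subgroupOf {L A : Subgroup G} (hA : A ≤ L) :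
    Nat.card (A.subgroupOf L) = Nat.card A :=
  Nat.card_congr (Subgroup.subgroupOfEquivOfLe hA).toEquiv

theorem cj_subgroupOf {L Q : Subgroup G} (k : L) :
    cj k (Q.subgroupOf L) = (cj (k : G) Q).subgroupOf L := by
  ext x
  rw [mem_cj, Subgroup.mem_subgroupOf, Subgroup.mem_subgroupOf, mem_cj]
  simp

theorem cj_subgroupOf_eq {L Q R : Subgroup G} (k : L) (h : cj (k : G) Q = R) :
    cj k (Q.subgroupOf L) = R.subgroupOf L := by rw [cj_subgroupOf, h]

theorem cj_le_of_mem {L Q : Subgroup G} {k : G} (hk : k ∈ L) (hQ : Q ≤ L) : cj k Q ≤ L :=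
  (cj_le_cj hQ).trans (cj_eq_of_mem hk).le

theorem orderOf_eq_one_of_dvd_coprime {M : Type*} [Monoid M] {x : M} {m n : ℕ}
    (h : Nat.Coprime m n) (hm : orderOf x ∣ m) (hn : orderOf x ∣ n) : x = 1 :=
  orderOf_eq_one_iff.mp (Nat.eq_one_of_dvd_coprimes h hm hn)

/-- Conjugation by an element normalising `L`, as an automorphism of `L`. -/
def restrictConj {L : Subgroup G} (x : G) (hx : cj x L = L) : MulAut L :=
  ((MulAut.conj x).subgroupMap L).trans (MulEquiv.subgroupCongr hx)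

@[simp] theorem restrictConj_apply {L : Subgroup G} (x : G) (hx : cj x L = L) (k : L) :
    (restrictConj x hx k : G) = x * k * x⁻¹ := rfl

theorem map_restrictConj {L Q : Subgroup G} (hQ : Q ≤ L) (x : G) (hx : cj x L = L) :
    (Q.subgroupOf L).map (restrictConj x hx).toMonoidHom = (cj x Q).subgroupOf L := by
  ext k
  rw [Subgroup.mem_map, Subgroup.mem_subgroupOf]
  constructor
  · rintro ⟨q, hq, rfl⟩
    exact ⟨q, hq, rfl⟩
  · rintro ⟨q, hq, hk⟩
    exact ⟨⟨q, hQ hq⟩, hq, Subtype.ext hk⟩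

variable [Finite G] {A B L : Subgroup G}

/-- A line. -/
structure IsLine (A B L : Subgroup G) : Prop where
  cardA : Nat.card A = 11
  cardB : Nat.card B = 11
  ne : A ≠ B
  eq : L = A ⊔ B
  iso : IsL2 L

namespace IsLine

variable (h : IsLine A B L)
include h

theorem leA : A ≤ L := h.eq ▸ le_sup_left

theorem leB : B ≤ L := h.eq ▸ le_sup_right

theorem cardA' : Nat.card (A.subgroupOf L) = 11 := (card_subgroupOf h.leA).trans h.cardA

theorem cardB' : Nat.card (B.subgroupOf L) = 11 := (card_subgroupOf h.leB).trans h.cardB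

theorem ne' : A.subgroupOf L ≠ B.subgroupOf L := fun e => h.ne (subgroupOf_inj h.leA h.leB e)

theorem card : Nat.card L = 660 := l2_card h.iso

theorem cj_line {x : G} (hxA : cj x A = A) (hxB : cj x B = B) : cj x L = L := by
  rw [h.eq, cj_sup, hxA, hxB]

theorem cj_line' {x : G} (hxA : cj x A = B) (hxB : cj x B = A) : cj x L = L := by
  rw [h.eq, cj_sup, hxA, hxB, sup_comm]

theorem sup_eq {C D : Subgroup G} (hC : Nat.card C = 11) (hD : Nat.card D = 11) (hCL : C ≤ L)
    (hDL : D ≤ L) (hne : C ≠ D) : C ⊔ D = L := by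
  refine le_antisymm (sup_le hCL hDL) ?_
  have := l2_gen h.iso ((card_subgroupOf hCL).trans hC) ((card_subgroupOf hDL).trans hD)
    (fun e => hne (subgroupOf_inj hCL hDL e))
  rw [← Subgroup.subgroupOf_sup hCL hDL, Subgroup.subgroupOf_eq_top] at this
  exact this

theorem exists_conj {C : Subgroup G} (hC : Nat.card C = 11) (hCL : C ≤ L) :
    ∃ k ∈ L, cj k A = C := by
  haveI : Fact (Nat.Prime 11) := ⟨by norm_num⟩
  have hf : 11 ^ (Nat.card L).factorization 11 = 11 := by
    have h11 : (660 : ℕ).factorization 11 = 1 := by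
      rw [show (660 : ℕ) = 11 * 60 from rfl, Nat.factorization_mul (by norm_num) (by norm_num),
        Finsupp.add_apply, Nat.Prime.factorization_self (by norm_num),
        Nat.factorization_eq_zero_of_not_dvd (by norm_num)]
    rw [h.card, h11, pow_one]
  let S : Sylow 11 L := Sylow.ofCard (A.subgroupOf L) (h.cardA'.trans hf.symm)
  let T : Sylow 11 L := Sylow.ofCard (C.subgroupOf L) (((card_subgroupOf hCL).trans hC).trans hf.symm)
  obtain ⟨k, hk⟩ := MulAction.exists_smul_eq L S T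
  refine ⟨k, k.2, subgroupOf_inj (cj_le_of_mem k.2 h.leA) hCL ?_⟩
  rw [← cj_subgroupOf]
  have := congrArg (fun U : Sylow 11 L => (U : Subgroup L)) hk
  simp [S, T, Sylow.coe_ofCard, Sylow.coe_subgroup_smul, Subgroup.pointwise_smul_def] at this
  exact this

theorem mem_of_centralises {x : G} (hx : x ∈ L) (hc : Centralises x A) : x ∈ A := by
  have : (⟨x, hx⟩ : L) ∈ Subgroup.centralizer ((A.subgroupOf L : Subgroup L) : Set L) :=
    Subgroup.mem_centralizer_iff.mpr fun a ha => Subtype.ext (hc _ ha).symm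
  rw [l2_centralizer h.iso h.cardA'] at this
  exact this

theorem eq_one_of_fix_five {x : G} (hx : x ∈ L) (hc : Centralises x A) (h5 : x ^ 5 = 1) :
    x = 1 :=
  orderOf_eq_one_of_dvd_coprime (m := 11) (n := 5) (by norm_num)
    (orderOf_dvd_of_pow_eq_one (pow_eleven h.cardA (h.mem_of_centralises hx hc)))
    (orderOf_dvd_of_pow_eq_one h5)

theorem pow_five {x : G} (hx : x ∈ L) (hxA : cj x A = A) (hxB : cj x B = B) : x ^ 5 = 1 := by
  let N : Subgroup L := Subgroup.normalizer ((A.subgroupOf L : Subgroup L) : Set L) ⊓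
    Subgroup.normalizer ((B.subgroupOf L : Subgroup L) : Set L)
  have hm : (⟨x, hx⟩ : L) ∈ N :=
    ⟨mem_normalizer_iff_cj.mpr (cj_subgroupOf_eq _ hxA),
      mem_normalizer_iff_cj.mpr (cj_subgroupOf_eq _ hxB)⟩
  have := pow_card_eq_one' (G := N) (x := ⟨_, hm⟩)
  rw [l2_pair h.iso h.cardA' h.cardB' h.ne'] at this
  exact congrArg (fun z : N => ((z : L) : G)) this

theorem eq_one_of_mem {x : G} (hx : x ∈ A) (hxB : cj x B = B) : x = 1 :=
  orderOf_eq_one_of_dvd_coprime (m := 11) (n := 5) (by norm_num)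
    (orderOf_dvd_of_pow_eq_one (pow_eleven h.cardA hx))
    (orderOf_dvd_of_pow_eq_one (h.pow_five (h.leA hx) (cj_eq_of_mem hx) hxB))

theorem exists_five : ∃ y ∈ L, orderOf y = 5 ∧ cj y A = A ∧ cj y B = B ∧
    ∀ z ∈ L, cj z A = A → cj z B = B → ∃ n : ℕ, z = y ^ n := by
  let N : Subgroup L := Subgroup.normalizer ((A.subgroupOf L : Subgroup L) : Set L) ⊓
    Subgroup.normalizer ((B.subgroupOf L : Subgroup L) : Set L)
  have hN : Nat.card N = 5 := l2_pair h.iso h.cardA' h.cardB' h.ne'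
  haveI : Fact (Nat.Prime 5) := ⟨by norm_num⟩
  haveI : IsCyclic N := isCyclic_of_prime_card hN
  obtain ⟨y, hy⟩ := IsCyclic.exists_generator (α := N)
  have fix : ∀ {C : Subgroup G}, C ≤ L →
      (y : L) ∈ Subgroup.normalizer ((C.subgroupOf L : Subgroup L) : Set L) →
      cj ((y : L) : G) C = C := fun hC hm => by
    refine subgroupOf_inj (cj_le_of_mem (y : L).2 hC) hC ?_
    rw [← cj_subgroupOf]
    exact mem_normalizer_iff_cj.mp hm
  refine ⟨((y : L) : G), (y : L).2, ?_, fix h.leA y.2.1, fix h.leB y.2.2, fun z hz hzA hzB => ?_⟩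
  · rw [Subgroup.orderOf_coe, Subgroup.orderOf_coe, orderOf_eq_card_of_forall_mem_zpowers hy, hN]
  · have hm : (⟨z, hz⟩ : L) ∈ N :=
      ⟨mem_normalizer_iff_cj.mpr (cj_subgroupOf_eq _ hzA),
        mem_normalizer_iff_cj.mpr (cj_subgroupOf_eq _ hzB)⟩
    obtain ⟨n, hn⟩ := mem_powers_iff_mem_zpowers.mpr (hy ⟨_, hm⟩)
    exact ⟨n, by simpa using (congrArg (fun t : N => ((t : L) : G)) hn).symm⟩

/-- An involution in a line normalises no subgroup of order 11 of it. -/
theorem fpf {x : G} (hx : x ∈ L) (h2 : x * x = 1) {C : Subgroup G} (hC : Nat.card C = 11)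
    (hCL : C ≤ L) (hf : cj x C = C) : x = 1 := by
  let N : Subgroup L := Subgroup.normalizer ((C.subgroupOf L : Subgroup L) : Set L)
  have hm : (⟨x, hx⟩ : L) ∈ N := mem_normalizer_iff_cj.mpr (cj_subgroupOf_eq _ hf)
  have := pow_card_eq_one' (G := N) (x := ⟨_, hm⟩)
  rw [l2_normalizer h.iso ((card_subgroupOf hCL).trans hC)] at this
  exact orderOf_eq_one_of_dvd_coprime (m := 2) (n := 55) (by norm_num)
    (orderOf_dvd_of_pow_eq_one (by rw [pow_two, h2]))
    (orderOf_dvd_of_pow_eq_one (congrArg (fun z : N => ((z : L) : G)) this))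

theorem mult {x : G} (hxA : cj x A = A) (hxB : cj x B = B) {m n : ZMod 11} (hm : Mult x A m)
    (hn : Mult x B n) : m * n = 1 := by
  have hL := h.cj_line hxA hxB
  have := l2_mult h.iso h.cardA' h.cardB' h.ne' (restrictConj x hL) (i := m.val) (j := n.val)
    (fun a ha => Subtype.ext (by rw [restrictConj_apply, hm (a : G) ha, SubmonoidClass.coe_pow]))
    (fun b hb => Subtype.ext (by rw [restrictConj_apply, hn (b : G) hb, SubmonoidClass.coe_pow]))
  have e : ((m.val * n.val : ℕ) : ZMod 11) = ((1 : ℕ) : ZMod 11) :=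
    (ZMod.natCast_eq_natCast_iff' _ _ _).mpr this
  simpa using e

theorem exists_swap : ∃ w ∈ L, w * w = 1 ∧ cj w A = B ∧ cj w B = A ∧
    (∀ y ∈ L, cj y A = A → cj y B = B → w * y * w⁻¹ = y⁻¹) ∧
    ∀ t : G, Mult t A (-1) → Mult t B (-1) → cj t A = A → cj t B = B → t * w = w * t := by
  obtain ⟨w, hw2, hwA, hwB, hwy, hwα⟩ := l2_swap h.iso h.cardA' h.cardB' h.ne'
  refine ⟨w, w.2, congrArg Subtype.val hw2, subgroupOf_inj (cj_le_of_mem w.2 h.leA) h.leB ?_,
    subgroupOf_inj (cj_le_of_mem w.2 h.leB) h.leA ?_, fun y hy hyA hyB => ?_,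
    fun t htA htB tA tB => ?_⟩
  · rw [← cj_subgroupOf]; exact hwA
  · rw [← cj_subgroupOf]; exact hwB
  · have := hwy ⟨y, hy⟩ (cj_subgroupOf_eq _ hyA) (cj_subgroupOf_eq _ hyB)
    exact congrArg Subtype.val this
  · have hL := h.cj_line tA tB
    have inv : ∀ {C : Subgroup G}, Nat.card C = 11 → Mult t C (-1) → ∀ c : L, (c : G) ∈ C →
        restrictConj t hL c = c⁻¹ := by
      intro C hC htC c hc
      refine Subtype.ext ?_
      rw [restrictConj_apply, htC _ hc, show (-1 : ZMod 11).val = 10 from rfl, Subgroup.coe_inv]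
      exact eq_inv_of_mul_eq_one_left (by rw [← pow_succ]; exact pow_eleven hC hc)
    have := congrArg Subtype.val (hwα (restrictConj t hL) (fun a ha => inv h.cardA htA a ha)
      fun b hb => inv h.cardB htB b hb)
    rw [restrictConj_apply, mul_inv_eq_iff_eq_mul] at this
    exact this

theorem eq_one_of_central {x : G} (hx : x ∈ L) (hc : ∀ z ∈ L, x * z = z * x) : x = 1 :=
  h.eq_one_of_mem (h.mem_of_centralises hx fun p hp => hc p (h.leA hp))
    (cj_fix_of_centralises fun p hp => hc p (h.leB hp))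

theorem inner_inj {k k' : G} (hk : k ∈ L) (hk' : k' ∈ L)
    (he : ∀ z ∈ L, k * z * k⁻¹ = k' * z * k'⁻¹) : k = k' := by
  have h1 := h.eq_one_of_central (L.mul_mem (L.inv_mem hk') hk) (fun z hz => by
    calc k'⁻¹ * k * z = k'⁻¹ * (k * z * k⁻¹) * k := by group
      _ = k'⁻¹ * (k' * z * k'⁻¹) * k := by rw [he z hz]
      _ = z * (k'⁻¹ * k) := by group)
  exact (inv_mul_eq_one.mp h1).symm

theorem outer_swap {g : G} (h2 : ∀ z ∈ L, g * (g * z * g⁻¹) * g⁻¹ = z) (hgA : cj g A = B)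
    (hgB : cj g B = A)
    (hfpf : ∀ C : Subgroup G, Nat.card C = 11 → C ≤ L → cj g C ≠ C) :
    ∃ k ∈ L, ∀ z ∈ L, g * z * g⁻¹ = k * z * k⁻¹ := by
  have hL := h.cj_line' hgA hgB
  rcases l2_outer_swap h.iso h.cardA' h.cardB' h.ne' (restrictConj g hL)
      (fun k => Subtype.ext (by
        rw [restrictConj_apply, restrictConj_apply]
        exact h2 k k.2))
      (by rw [map_restrictConj h.leA, hgA]) with ⟨C, hC, hCα⟩ | ⟨k, hk⟩
  · refine absurd ?_ (hfpf (C.map L.subtype) ?_ (Subgroup.map_subtype_le C))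
    · conv_rhs => rw [← hCα, Subgroup.map_map]
      rw [cj, Subgroup.map_map]
      rfl
    · rw [← Nat.card_congr (C.equivMapOfInjective _ L.subtype_injective).toEquiv, hC]
  · exact ⟨k, k.2, fun z hz => congrArg Subtype.val (hk ⟨z, hz⟩)⟩

end IsLine

end H21.Eleven
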