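import Cfsg.Agent.H63.Eleven.Defs

/-!
Multipliers of elements normalising a subgroup of order 11 (helper21).
-/

set_option autoImplicit false

namespace H21.Eleven

open H63.Eleven

universe u

variable {G : Type u} [Group G]

/-- Conjugation by `x` is the power map `m` on `A`. -/
def Mult (x : G) (A : Subgroup G) (m : ZMod 11) : Prop := ActsAs x A m.val

theorem card_cj (g : G) (A : Subgroup G) : Nat.card (cj g A) = Nat.card A :=
  (Nat.card_congr (A.equivMapOfInjective _ (MulAut.conj g).injective).toEquiv).symm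

theorem cj_sup (g : G) (A B : Subgroup G) : cj g (A ⊔ B) = cj g A ⊔ cj g B :=
  Subgroup.map_sup A B _

theorem cj_le_cj {g : G} {A B : Subgroup G} (h : A ≤ B) : cj g A ≤ cj g B := Subgroup.map_mono h

theorem cj_inv_cj (g : G) (A : Subgroup G) : cj g⁻¹ (cj g A) = A := by
  rw [cj_cj, inv_mul_cancel, cj_one]

theorem cj_eq_of_mem {g : G} {A : Subgroup G} (h : g ∈ A) : cj g A = A := by
  ext x
  rw [mem_cj, A.mul_mem_cancel_right h, A.mul_mem_cancel_left (A.inv_mem h)]

theorem mem_normalizer_iff_cj {g : G} {A : Subgroup G} :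
    g ∈ Subgroup.normalizer (A : Set G) ↔ cj g A = A := by
  constructor
  · intro h
    ext x
    rw [mem_cj, Subgroup.mem_normalizer_iff.mp h (g⁻¹ * x * g)]
    simp [mul_assoc]
  · intro h
    refine Subgroup.mem_normalizer_iff.mpr fun x => ?_
    conv_rhs => rw [← h, mem_cj]
    simp [mul_assoc]

theorem cj_fix_of_centralises {x : G} {A : Subgroup G} (h : Centralises x A) : cj x A = A := by
  refine mem_normalizer_iff_cj.mp (Subgroup.centralizer_le_normalizer _ ?_)
  exact Subgroup.mem_centralizer_iff.mpr fun a ha => (h a ha).symm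

variable {A : Subgroup G} (hA : Nat.card A = 11)
include hA

theorem pow_eleven {a : G} (ha : a ∈ A) : a ^ 11 = 1 := by
  have := pow_card_eq_one' (G := A) (x := ⟨a, ha⟩)
  rw [hA] at this
  exact congrArg Subtype.val this

theorem exists_gen : ∃ a ∈ A, orderOf a = 11 ∧ ∀ b ∈ A, ∃ n : ℕ, b = a ^ n := by
  haveI : IsCyclic A := isCyclic_of_prime_card hA
  obtain ⟨⟨a, ha⟩, hg⟩ := IsCyclic.exists_generator (α := A)
  have ho : orderOf (⟨a, ha⟩ : A) = 11 := by rw [orderOf_eq_card_of_forall_mem_zpowers hg, hA]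
  refine ⟨a, ha, (Subgroup.orderOf_mk a ha).symm.trans ho, fun b hb => ?_⟩
  haveI : Finite A := Nat.finite_of_card_ne_zero (by rw [hA]; norm_num)
  obtain ⟨n, hn⟩ := mem_powers_iff_mem_zpowers.mpr (hg ⟨b, hb⟩)
  exact ⟨n, by simpa using (congrArg Subtype.val hn).symm⟩

theorem Mult.of_actsAs {x : G} {i : ℕ} (h : ActsAs x A i) : Mult x A (i : ZMod 11) := by
  intro a ha
  rw [h a ha, ZMod.val_natCast]
  exact pow_eq_pow_mod i (pow_eleven hA ha)

theorem exists_mult {x : G} (hx : cj x A = A) : ∃ m, Mult x A m := by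
  obtain ⟨a, ha, -, hgen⟩ := exists_gen hA
  have h1 : x * a * x⁻¹ ∈ A := by
    rw [← hx, mem_cj]
    simpa [mul_assoc] using ha
  obtain ⟨i, hi⟩ := hgen _ h1
  refine ⟨i, Mult.of_actsAs hA fun b hb => ?_⟩
  obtain ⟨n, rfl⟩ := hgen b hb
  rw [← conj_pow, hi, ← pow_mul, ← pow_mul, mul_comm]

theorem Mult.mul {x z : G} {m n : ZMod 11} (hx : Mult x A m) (hz : Mult z A n) :
    Mult (x * z) A (m * n) := by
  have h : ActsAs (x * z) A (n.val * m.val) := by
    intro a ha
    calc x * z * a * (x * z)⁻¹ = x * (z * a * z⁻¹) * x⁻¹ := by group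
      _ = x * a ^ n.val * x⁻¹ := by rw [hz a ha]
      _ = (a ^ n.val) ^ m.val := hx _ (A.pow_mem ha _)
      _ = a ^ (n.val * m.val) := (pow_mul ..).symm
  have := Mult.of_actsAs hA h
  simpa [mul_comm] using this

theorem Mult.unique {x : G} {m n : ZMod 11} (hm : Mult x A m) (hn : Mult x A n) : m = n := by
  obtain ⟨a, ha, ho, -⟩ := exists_gen hA
  have h := (hm a ha).symm.trans (hn a ha)
  rw [pow_inj_mod, ho, Nat.mod_eq_of_lt m.val_lt, Nat.mod_eq_of_lt n.val_lt] at h
  exact ZMod.val_injective 11 h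

omit hA in
theorem mult_one_iff {x : G} : Mult x A 1 ↔ Centralises x A := by
  constructor
  · intro h a ha
    have := h a ha
    rwa [ZMod.val_one, pow_one, mul_inv_eq_iff_eq_mul] at this
  · intro h a ha
    rw [ZMod.val_one, pow_one, h a ha, mul_inv_cancel_right]

theorem mult_one : Mult (1 : G) A 1 := mult_one_iff.mpr fun a _ => by simp

theorem Mult.pow {x : G} {m : ZMod 11} (hx : Mult x A m) : ∀ n : ℕ, Mult (x ^ n) A (m ^ n)
  | 0 => by simpa using mult_one hA
  | n + 1 => by rw [pow_succ, pow_succ]; exact Mult.mul hA (Mult.pow hx n) hx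

theorem mult_eq_one {x : G} {m : ZMod 11} (hx : Mult x A m) (h : Centralises x A) : m = 1 :=
  Mult.unique hA hx (mult_one_iff.mpr h)

theorem Mult.ne_zero {x : G} {m : ZMod 11} (hx : Mult x A m) : m ≠ 0 := by
  rintro rfl
  obtain ⟨a, ha, ho, -⟩ := exists_gen hA
  have := hx a ha
  rw [ZMod.val_zero, pow_zero, mul_inv_eq_one] at this
  have h1 : a = 1 := by simpa using this
  simp [h1] at ho

/-- Multipliers commute, so commutators centralise. -/
theorem comm_centralises {x z : G} (hx : cj x A = A) (hz : cj z A = A) :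
    Centralises (x * z * x⁻¹ * z⁻¹) A := by
  obtain ⟨m, hm⟩ := exists_mult hA hx
  obtain ⟨n, hn⟩ := exists_mult hA hz
  obtain ⟨m', hm'⟩ := exists_mult hA (x := x⁻¹) (by conv_lhs => rw [← hx, cj_inv_cj])
  obtain ⟨n', hn'⟩ := exists_mult hA (x := z⁻¹) (by conv_lhs => rw [← hz, cj_inv_cj])
  have h1 : m * m' = 1 := mult_eq_one hA (Mult.mul hA hm hm') (by simp [Centralises])
  have h2 : n * n' = 1 := mult_eq_one hA (Mult.mul hA hn hn') (by simp [Centralises])
  have h := Mult.mul hA (Mult.mul hA (Mult.mul hA hm hn) hm') hn'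
  rw [show m * n * m' * n' = 1 by linear_combination n * n' * h1 + h2] at h
  exact mult_one_iff.mp h

theorem pow_ten_centralises {x : G} (hx : cj x A = A) : Centralises (x ^ 10) A := by
  obtain ⟨m, hm⟩ := exists_mult hA hx
  have h := Mult.pow hA hm 10
  rw [show m ^ 10 = 1 from ZMod.pow_card_sub_one_eq_one (Mult.ne_zero hA hm)] at h
  exact mult_one_iff.mp h

end H21.Eleven
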