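import Cfsg.Agent.H63.Eleven.ACore
import Cfsg.Agent.H66.Eleven.Basic
import Cfsg.Agent.H21.Eleven.Mult

/-!
An element of a two-point centraliser stabilising a second line: the eleven lines of `⟨x⟩ × P a`
(helper21).
-/

set_option autoImplicit false
set_option linter.unusedSectionVars false
set_option linter.style.haveILetI false

namespace H21.Eleven

open H63.Eleven MulAction

universe u v

variable {G : Type u} {Ω : Type v} [Group G] [Finite G] [MulAction G Ω] (A : ACore G Ω)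

theorem P_pow_eleven {a : Ω} {p : G} (hp : p ∈ A.P a) : p ^ 11 = 1 := pow_eleven (A.card_P a) hp

theorem W_comm {a : Ω} {x p : G} (hx : x ∈ A.W a) (hp : p ∈ A.P a) : Commute x p :=
  (A.W_iff a x).1 hx p hp

theorem P_fix_eq {a c : Ω} {p : G} (hca : c ≠ a) (hp : p ∈ A.P a) (hc : p • c = c) : p = 1 := by
  by_contra h
  exact hca (A.P_fix a c p hp h hc)

theorem stab_pow {c : Ω} {x : G} (h : x • c = c) (n : ℕ) : x ^ n • c = c :=
  (stabilizer G c).pow_mem h n

/-- The index set of lines through `a` fixed pointwise by `x * p0 ^ i`. -/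
def Slope (a : Ω) (x p0 : G) (i : ZMod 11) : Prop := ∃ c, c ≠ a ∧ (x * p0 ^ i.val) • c = c

theorem pow_val_add {p0 : G} (h : p0 ^ 11 = 1) (i j : ZMod 11) :
    p0 ^ (i + j).val = p0 ^ i.val * p0 ^ j.val := by
  rw [← pow_add, ZMod.val_add, ← pow_eq_pow_mod _ h]

theorem pow_val_natCast {p0 : G} (h : p0 ^ 11 = 1) (n : ℕ) : p0 ^ (n : ZMod 11).val = p0 ^ n := by
  rw [ZMod.val_natCast, ← pow_eq_pow_mod _ h]

theorem exists_pow_fifth_root : ∀ m t : ZMod 11, m ^ 5 = 1 → m ≠ 1 → t ^ 5 = 1 →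
    ∃ n : Fin 5, m ^ n.val = t := by decide

/-- The element `y` of order five scales the slopes. -/
theorem slope_scale {a b : Ω} {x p0 : G} (hab : a ≠ b) (hx : x ∈ A.W a) (hxb : x • b = b)
    (hp0 : p0 ∈ A.P a) {i : ZMod 11} (hi : Slope a x p0 i) {t : ZMod 11} (ht : t ^ 5 = 1) :
    Slope a x p0 (t * i) := by
  obtain ⟨c, hca, hc⟩ := hi
  obtain ⟨y, hy5, hya, hyb, hyfix, hycomm, -⟩ := A.exists_y a b hab
  have hy1 : y ≠ 1 := fun e => by simp [e] at hy5
  have hfix : cj y (A.P a) = A.P a := by rw [← A.P_conj, hya]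
  obtain ⟨m, hm⟩ := exists_mult (A.card_P a) hfix
  have hm5 : m ^ 5 = 1 := by
    have := Mult.pow (A.card_P a) hm 5
    rw [show y ^ 5 = 1 from hy5 ▸ pow_orderOf_eq_one y] at this
    exact Mult.unique (A.card_P a) this (mult_one (A.card_P a))
  have hm1 : m ≠ 1 := fun e =>
    H66.Eleven.y_notMem A hab hy1 hyb hyfix ((A.W_iff a y).2 (mult_one_iff.1 (e ▸ hm)))
  obtain ⟨n, hn⟩ := exists_pow_fifth_root m t hm5 hm1 ht
  refine ⟨y ^ n.val • c, fun e => hca ?_, ?_⟩
  · exact MulAction.injective (y ^ n.val) (e.trans (stab_pow hya _).symm)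
  · have hmn := Mult.pow (A.card_P a) hm n.val
    rw [hn] at hmn
    have h1 : (y ^ n.val) * p0 ^ i.val * (y ^ n.val)⁻¹ = p0 ^ (t * i).val := by
      rw [hmn _ ((A.P a).pow_mem hp0 _), ← pow_mul, ZMod.val_mul, ← pow_eq_pow_mod _ (P_pow_eleven A hp0),
        mul_comm]
    have h2 : x * y ^ n.val = y ^ n.val * x :=
      (show Commute x y from hycomm x hx hxb).pow_right n.val
    calc (x * p0 ^ (t * i).val) • y ^ n.val • c
        = ((x * y ^ n.val) * p0 ^ i.val) • c := by rw [← h1, ← mul_smul]; group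
      _ = y ^ n.val • (x * p0 ^ i.val) • c := by rw [h2, ← mul_smul, mul_assoc]
      _ = y ^ n.val • c := by rw [hc]

/-- One further slope gives all eleven. -/
theorem slope_all {a b : Ω} {x p0 : G} (hab : a ≠ b) (hx : x ∈ A.W a) (hxb : x • b = b)
    (hp0 : p0 ∈ A.P a) {s : ZMod 11} (hs : Slope a x p0 s) (hs0 : s ≠ 0) (i : ZMod 11) :
    Slope a x p0 i := by
  have h11 := P_pow_eleven A hp0
  have h0 : Slope a x p0 0 := ⟨b, hab.symm, by rw [ZMod.val_zero, pow_zero, mul_one, hxb]⟩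
  -- recentre at `s`
  have recentre : ∀ {j q : ZMod 11}, Slope a x p0 j → q ^ 5 = 1 →
      Slope a x p0 (s + q * (j - s)) := by
    intro j q ⟨c, hca, hc⟩ hq
    obtain ⟨d, hda, hd⟩ := hs
    have hx' : x * p0 ^ s.val ∈ A.W a :=
      (A.W a).mul_mem hx (A.P_le a ((A.P a).pow_mem hp0 _))
    have hj : Slope a (x * p0 ^ s.val) p0 (j - s) :=
      ⟨c, hca, by rw [mul_assoc, ← pow_val_add h11, add_sub_cancel, hc]⟩
    obtain ⟨e, hea, he⟩ := slope_scale A hda.symm hx' hd hp0 hj hq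
    exact ⟨e, hea, by rwa [pow_val_add h11, ← mul_assoc]⟩
  rcases (by decide : ∀ s i : ZMod 11, s ≠ 0 → i = 0 ∨ ∃ q q' : ZMod 11,
    q ^ 5 = 1 ∧ q' ^ 5 = 1 ∧ i = s + q * (q' * s - s)) s i hs0 with rfl | ⟨q, q', hq, hq', rfl⟩
  · exact h0
  · exact recentre (slope_scale A hab hx hxb hp0 hs hq') hq

/-- The data attached to a stabilised second line. -/
theorem slopes_of_second {a b c : Ω} {x : G} (hab : a ≠ b) (hac : a ≠ c) (hx : x ∈ A.W a)
    (hxb : x • b = b) (hx1 : x ≠ 1) (hxc : x • c ∈ A.line a c) (hcl : c ∉ A.line a b) :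
    orderOf x = 11 ∧ ∃ p0 ∈ A.P a, p0 ≠ 1 ∧ ∀ i : ZMod 11, Slope a x p0 i := by
  haveI : Fact (Nat.Prime 11) := ⟨by norm_num⟩
  obtain ⟨p, hp, hpc⟩ := A.line_stab a c x hac hx hxc
  have hp11 := P_pow_eleven A hp
  have hp1 : p ≠ 1 := by
    rintro rfl
    rw [mul_one] at hpc
    exact hcl ((A.V_fix a b x hab hx hxb hx1 c).1 hpc)
  have hx11 : x ^ 11 = 1 := by
    by_contra h
    refine hcl ((A.V_fix a b (x ^ 11) hab ((A.W a).pow_mem hx 11) (stab_pow hxb 11) h c).1 ?_)
    have := stab_pow hpc 11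
    rwa [(W_comm A hx hp).mul_pow, hp11, mul_one] at this
  exact ⟨orderOf_eq_prime hx11 hx1, p, hp, hp1, slope_all A hab hx hxb hp
    (s := 1) ⟨c, hac.symm, by rw [ZMod.val_one, pow_one, hpc]⟩ one_ne_zero⟩

/-- With all eleven slopes, `u` is divisible by eleven. -/
theorem eleven_dvd_u {a b : Ω} {x p0 : G} (hab : a ≠ b) (hx : x ∈ A.W a) (hxb : x • b = b)
    (ho : orderOf x = 11) (hp0 : p0 ∈ A.P a) (hp1 : p0 ≠ 1)
    (hall : ∀ i, Slope a x p0 i) : 11 ∣ A.u := by
  haveI := H66.Eleven.finiteΩ A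
  haveI : Fact (Nat.Prime 11) := ⟨by norm_num⟩
  have hx11 : x ^ 11 = 1 := ho ▸ pow_orderOf_eq_one x
  have hxe : ∀ i : ZMod 11, x * p0 ^ i.val ∈ A.W a ∧ x * p0 ^ i.val ≠ 1 := by
    intro i
    refine ⟨(A.W a).mul_mem hx (A.P_le a ((A.P a).pow_mem hp0 _)), fun e => ?_⟩
    have hxP : x ∈ A.P a := by
      rw [eq_inv_of_mul_eq_one_left e]
      exact (A.P a).inv_mem ((A.P a).pow_mem hp0 _)
    rw [P_fix_eq A hab.symm hxP hxb, orderOf_one] at ho
    norm_num at ho
  choose c hca hc using hall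
  -- the 121 points on the eleven lines
  let B : ZMod 11 → Set Ω := fun i => A.line a (c i) \ {a}
  have hB : ∀ i d, d ∈ B i ↔ d ≠ a ∧ (x * p0 ^ i.val) • d = d := by
    intro i d
    rw [A.V_fix a (c i) _ (hca i).symm (hxe i).1 (hc i) (hxe i).2 d]
    exact ⟨fun h => ⟨fun e => h.2 (by simp [e]), h.1⟩, fun h => ⟨h.2, by simpa using h.1⟩⟩
  have hBcard : ∀ i, (B i).ncard = 11 := by
    intro i
    rw [Set.ncard_sdiff (Set.singleton_subset_iff.2 (A.line_left a _ (hca i).symm)),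
      Set.ncard_singleton, ← Nat.card_coe_set_eq, A.line_card a _ (hca i).symm]
  have hP11 := P_pow_eleven A hp0
  have hp_ord : orderOf p0 = 11 := orderOf_eq_prime hP11 hp1
  have disj : ∀ i j d, d ∈ B i → d ∈ B j → i = j := by
    intro i j d hi hj
    rw [hB] at hi hj
    have h1 : p0 ^ i.val • d = p0 ^ j.val • d := by
      have := hi.2.trans hj.2.symm
      rw [mul_smul, mul_smul] at this
      exact MulAction.injective x this
    have h2 : (p0 ^ j.val)⁻¹ * p0 ^ i.val = 1 :=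
      P_fix_eq A hi.1 ((A.P a).mul_mem ((A.P a).inv_mem ((A.P a).pow_mem hp0 _))
        ((A.P a).pow_mem hp0 _)) (by rw [mul_smul, h1, inv_smul_smul])
    have h3 := inv_mul_eq_one.1 h2
    rw [pow_inj_mod, hp_ord, Nat.mod_eq_of_lt j.val_lt, Nat.mod_eq_of_lt i.val_lt] at h3
    exact (ZMod.val_injective 11 h3).symm
  let X : Set Ω := ⋃ i, B i
  have hXcard : X.ncard = 121 := by
    rw [show X = ⋃ i, B i from rfl, Set.ncard_iUnion_of_finite (fun i => Set.toFinite _)
      (fun i j hij => Set.disjoint_left.2 fun d hi hj => hij (disj i j d hi hj))]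
    rw [finsum_eq_sum_of_fintype]
    simp [hBcard]
  -- `⟨x⟩ × P` is semiregular off these points and `a`
  let φ : Subgroup.zpowers x × Subgroup.zpowers p0 →* G :=
    (Subgroup.zpowers x).subtype.noncommCoprod (Subgroup.zpowers p0).subtype fun q r => by
      obtain ⟨n, hn⟩ := Subgroup.mem_zpowers_iff.1 q.2
      obtain ⟨k, hk⟩ := Subgroup.mem_zpowers_iff.1 r.2
      show Commute (q : G) (r : G)
      rw [← hn, ← hk]
      exact (W_comm A hx hp0).zpow_zpow n k
  have hinj : Function.Injective φ := by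
    rw [injective_iff_map_eq_one]
    rintro ⟨q, r⟩ e
    have e' : (q : G) * r = 1 := e
    have hrP : (r : G) ∈ A.P a := (Subgroup.zpowers_le.2 hp0) r.2
    have hqP : (q : G) ∈ A.P a := by
      rw [eq_inv_of_mul_eq_one_left e']
      exact (A.P a).inv_mem hrP
    have hq1 : (q : G) = 1 := P_fix_eq A hab.symm hqP
      ((Subgroup.zpowers_le.2 (show x ∈ stabilizer G b from hxb)) q.2)
    rw [hq1, one_mul] at e'
    exact Prod.ext (Subtype.ext hq1) (Subtype.ext e')
  have hcard : Nat.card φ.range = 121 := by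
    rw [← Nat.card_congr (MonoidHom.ofInjective hinj).toEquiv, Nat.card_prod, Nat.card_zpowers,
      Nat.card_zpowers, ho, hp_ord]
  have hR : φ.range ≤ A.W a := by
    rintro _ ⟨⟨q, r⟩, rfl⟩
    exact (A.W a).mul_mem ((Subgroup.zpowers_le.2 hx) q.2)
      ((Subgroup.zpowers_le.2 (A.P_le a hp0)) r.2)
  have hstab : ∀ d : Ω, d ∉ X → d ≠ a → ∀ g ∈ φ.range, g • d = d → g = 1 := by
    rintro d hdX hda g ⟨⟨q, r⟩, rfl⟩ hgd
    obtain ⟨j, hj⟩ := mem_powers_iff_mem_zpowers.2 q.2
    change x ^ j = (q : G) at hj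
    obtain ⟨k, hk⟩ := mem_powers_iff_mem_zpowers.2 r.2
    change p0 ^ k = (r : G) at hk
    have hgd' : (x ^ j * p0 ^ k) • d = d := by rw [hj, hk]; exact hgd
    by_cases hj0 : (j : ZMod 11) = 0
    · have hxj : x ^ j = 1 := by
        obtain ⟨l, hl⟩ := (ZMod.natCast_eq_zero_iff j 11).1 hj0
        rw [hl, pow_mul, hx11, one_pow]
      rw [hxj, one_mul] at hgd'
      have hr : p0 ^ k = 1 := P_fix_eq A hda ((A.P a).pow_mem hp0 k) hgd'
      show (q : G) * r = 1
      rw [← hj, ← hk, hxj, hr, one_mul]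
    · exfalso
      let l : ℕ := ((j : ZMod 11)⁻¹).val
      have hl : ((j * l : ℕ) : ZMod 11) = 1 := by
        rw [Nat.cast_mul, ZMod.natCast_zmod_val, mul_inv_cancel₀ hj0]
      have h := stab_pow hgd' l
      rw [(((W_comm A hx hp0).pow_pow j k)).mul_pow, ← pow_mul, ← pow_mul,
        ← pow_val_natCast hx11 (j * l), hl, ZMod.val_one, pow_one,
        ← pow_val_natCast hP11 (k * l)] at h
      exact hdX (Set.mem_iUnion.2 ⟨_, (hB _ d).2 ⟨hda, h⟩⟩)
  let Y : Set Ω := ({a} ∪ X)ᶜ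
  have hYinv : ∀ g ∈ φ.range, ∀ d ∈ Y, g • d ∈ Y := by
    intro g hg d hd hgd
    apply hd
    rcases hgd with h | h
    · exact Or.inl (MulAction.injective g
        ((Set.mem_singleton_iff.1 h).trans (A.W_le a (hR hg)).symm))
    · obtain ⟨i, hi⟩ := Set.mem_iUnion.1 h
      rw [hB] at hi
      refine Or.inr (Set.mem_iUnion.2 ⟨i, (hB i d).2 ⟨fun e => hi.1 (e ▸ A.W_le a (hR hg)), ?_⟩⟩)
      have hc' : Commute (x * p0 ^ i.val) g := by
        obtain ⟨⟨q, r⟩, rfl⟩ := hg
        have hq : Commute x (q : G) := by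
          obtain ⟨n, hn⟩ := Subgroup.mem_zpowers_iff.1 q.2
          rw [← hn]; exact (Commute.refl x).zpow_right n
        have hr : Commute p0 (r : G) := by
          obtain ⟨n, hn⟩ := Subgroup.mem_zpowers_iff.1 r.2
          rw [← hn]; exact (Commute.refl p0).zpow_right n
        have hrP : (r : G) ∈ A.P a := (Subgroup.zpowers_le.2 hp0) r.2
        have hqW : (q : G) ∈ A.W a := (Subgroup.zpowers_le.2 hx) q.2
        exact ((hq.mul_right (W_comm A hx hrP))).mul_left
          (((W_comm A hqW hp0).symm.mul_right hr).pow_left _)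
      refine MulAction.injective g ?_
      show g • (x * p0 ^ i.val) • d = g • d
      rw [← mul_smul, ← hc'.eq, mul_smul, hi.2]
  have hdvd : Nat.card φ.range ∣ Y.ncard := by
    letI : MulAction φ.range Y :=
      { smul := fun g d => ⟨(g : G) • (d : Ω), hYinv g g.2 d d.2⟩
        one_smul := fun d => Subtype.ext (one_smul G (d : Ω))
        mul_smul := fun g g' d => Subtype.ext (mul_smul (g : G) (g' : G) (d : Ω)) }
    have hst : ∀ d : Y, stabilizer φ.range d = ⊥ := fun d =>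
      (Subgroup.eq_bot_iff_forall _).2 fun g hg => Subtype.ext
        (hstab d (fun h => d.2 (Or.inr h)) (fun h => d.2 (Or.inl h)) g g.2
          (congrArg Subtype.val (mem_stabilizer_iff.1 hg)))
    classical
    haveI : Fintype (orbitRel.Quotient φ.range Y) := Fintype.ofFinite _
    rw [← Nat.card_coe_set_eq Y,
      Nat.card_congr (selfEquivSigmaOrbitsQuotientStabilizer φ.range Y), Nat.card_sigma]
    exact Finset.dvd_sum fun i _ => by
      rw [hst, QuotientGroup.quotientBot.toEquiv |> Nat.card_congr]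
  have haX : a ∉ X := fun h => by
    obtain ⟨i, hi⟩ := Set.mem_iUnion.1 h
    exact ((hB i a).1 hi).1 rfl
  have hsum := Set.ncard_add_ncard_compl ({a} ∪ X)
  rw [Set.singleton_union, Set.ncard_insert_of_notMem haX, hXcard] at hsum
  rw [hcard, show Y = (insert a X)ᶜ by rw [← Set.singleton_union]] at hdvd
  rw [A.card_points] at hsum
  obtain ⟨l, hl⟩ := hdvd
  rw [hl] at hsum
  exact ⟨1 + l, by omega⟩

/-- With all eleven slopes, `⟨x⟩` is self-normalising in the two-point centraliser. -/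
theorem self_normalizing (hodd : Odd A.v) {a b : Ω} {x p0 : G} (hab : a ≠ b) (hx : x ∈ A.W a)
    (hxb : x • b = b) (ho : orderOf x = 11) (hp0 : p0 ∈ A.P a) (hp1 : p0 ≠ 1)
    (hall : ∀ i, Slope a x p0 i) {g : G} (hg : g ∈ A.W a) (hgb : g • b = b)
    (hn : g * x * g⁻¹ ∈ Subgroup.zpowers x) : g ∈ Subgroup.zpowers x := by
  haveI := H66.Eleven.finiteΩ A
  haveI : Fact (Nat.Prime 11) := ⟨by norm_num⟩
  have hX : Nat.card (Subgroup.zpowers x) = 11 := by rw [Nat.card_zpowers, ho]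
  have hgX : cj g (Subgroup.zpowers x) = Subgroup.zpowers x := by
    refine Subgroup.eq_of_le_of_card_ge ?_ ((card_cj g _).symm).le
    rw [cj, MonoidHom.map_zpowers, Subgroup.zpowers_le]
    exact hn
  obtain ⟨k, hk⟩ := exists_mult hX hgX
  have hgv : g ^ A.v = 1 := by
    rw [← A.card_V a b hab]
    exact congrArg Subtype.val (pow_card_eq_one' (x := (⟨g, hg, hgb⟩ :
      ↥(A.W a ⊓ stabilizer G b : Subgroup G))))
  have hkv : k ^ A.v = 1 := by
    have := Mult.pow hX hk A.v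
    rw [hgv] at this
    exact Mult.unique hX this (mult_one hX)
  have hk5 : k ^ 5 = 1 := by
    have h10 : k ^ 10 = 1 := ZMod.pow_card_sub_one_eq_one (Mult.ne_zero hX hk)
    refine orderOf_dvd_iff_pow_eq_one.1 ?_
    refine Nat.Coprime.dvd_of_dvd_mul_left (m := 2) ?_ (orderOf_dvd_of_pow_eq_one h10)
    exact Nat.Coprime.coprime_dvd_left (orderOf_dvd_of_pow_eq_one hkv)
      (Nat.coprime_comm.1 (Nat.prime_two.coprime_iff_not_dvd.2 fun h2 =>
        (Nat.not_even_iff_odd.2 hodd) (even_iff_two_dvd.2 h2)))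
  obtain ⟨y, hy5, hya, hyb, hyfix, hycomm, hyx, -⟩ := A.exists_y a b hab
  have hy1 : y ≠ 1 := fun e => by simp [e] at hy5
  obtain ⟨m, hm⟩ := exists_mult (A.card_P a) (x := y) (by rw [← A.P_conj, hya])
  have hm5 : m ^ 5 = 1 := by
    have := Mult.pow (A.card_P a) hm 5
    rw [show y ^ 5 = 1 from hy5 ▸ pow_orderOf_eq_one y] at this
    exact Mult.unique (A.card_P a) this (mult_one (A.card_P a))
  have hm1 : m ≠ 1 := fun e =>
    H66.Eleven.y_notMem A hab hy1 hyb hyfix ((A.W_iff a y).2 (mult_one_iff.1 (e ▸ hm)))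
  obtain ⟨n, hn'⟩ := exists_pow_fifth_root m k hm5 hm1 hk5
  -- `h = y ^ n g` stabilises the line of slope one
  obtain ⟨c, hca, hc⟩ := hall 1
  rw [ZMod.val_one, pow_one] at hc
  have hcl : c ∉ A.line a b := by
    intro hcl
    have hx1 : x ≠ 1 := fun e => by simp [e] at ho
    have hxc := (A.V_fix a b x hab hx hxb hx1 c).2 hcl
    have : x • p0 • c = x • c := by rw [← mul_smul, hc, hxc]
    exact hp1 (P_fix_eq A hca hp0 (MulAction.injective x this))
  let h : G := y ^ n.val * g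
  have hha : h • a = a := by rw [mul_smul, A.W_le a hg, stab_pow hya]
  have hcy : Commute g y := hycomm g hg hgb
  have hhp : h * p0 * h⁻¹ = p0 ^ k.val := by
    have := Mult.pow (A.card_P a) hm n.val
    rw [hn'] at this
    calc h * p0 * h⁻¹ = y ^ n.val * (g * p0 * g⁻¹) * (y ^ n.val)⁻¹ := by simp only [h]; group
      _ = y ^ n.val * p0 * (y ^ n.val)⁻¹ := by
        rw [(W_comm A hg hp0).eq, mul_inv_cancel_right]
      _ = p0 ^ k.val := this p0 hp0
  have hhx : h * x * h⁻¹ = x ^ k.val := by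
    have e : Commute (y ^ n.val) (x ^ k.val) := ((show Commute x y from hycomm x hx hxb).symm).pow_pow _ _
    calc h * x * h⁻¹ = y ^ n.val * (g * x * g⁻¹) * (y ^ n.val)⁻¹ := by simp only [h]; group
      _ = y ^ n.val * x ^ k.val * (y ^ n.val)⁻¹ := by rw [hk x (Subgroup.mem_zpowers x)]
      _ = x ^ k.val := by rw [e.eq, mul_inv_cancel_right]
  have hhe : h * (x * p0) = (x * p0) ^ k.val * h := by
    rw [(W_comm A hx hp0).mul_pow, ← hhx, ← hhp]
    group
  have hec : x * p0 ∈ A.W a := (A.W a).mul_mem hx (A.P_le a hp0)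
  have he1 : x * p0 ≠ 1 := fun e => hcl (by
    have hxP : x ∈ A.P a := by
      rw [eq_inv_of_mul_eq_one_left e]; exact (A.P a).inv_mem hp0
    rw [P_fix_eq A hab.symm hxP hxb, orderOf_one] at ho
    norm_num at ho)
  have hek1 : (x * p0) ^ k.val ≠ 1 := by
    intro e
    have ho' : orderOf (x * p0) = 11 := orderOf_eq_prime (by
      rw [(W_comm A hx hp0).mul_pow, P_pow_eleven A hp0, mul_one, ← ho, pow_orderOf_eq_one]) he1
    have := orderOf_dvd_of_pow_eq_one e
    rw [ho'] at this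
    have h1 := Nat.eq_zero_of_dvd_of_lt this k.val_lt
    exact (Mult.ne_zero hX hk) ((ZMod.val_eq_zero k).1 h1)
  have hhc : h • c ∈ A.line a c :=
    (A.V_fix a c ((x * p0) ^ k.val) hca.symm ((A.W a).pow_mem hec _) (stab_pow hc _) hek1 _).1
      (by rw [← mul_smul, ← hhe, mul_smul, hc])
  rcases eq_or_ne n.val 0 with hn0 | hn0
  · -- `g` itself stabilises that line
    have hgc : g • c ∈ A.line a c := by simpa [h, hn0] using hhc
    obtain ⟨p, hp, hpc⟩ := A.line_stab a c g hca.symm hg hgc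
    obtain ⟨d, hd, hdo, hgen⟩ := exists_gen (A.card_P a)
    obtain ⟨i, hi⟩ := hgen p0 hp0
    obtain ⟨j, hj⟩ := hgen p hp
    have hi0 : (i : ZMod 11) ≠ 0 := by
      intro e
      obtain ⟨l, hl⟩ := (ZMod.natCast_eq_zero_iff i 11).1 e
      exact hp1 (by rw [hi, hl, pow_mul, P_pow_eleven A hd, one_pow])
    let l : ℕ := (-(j : ZMod 11) * (i : ZMod 11)⁻¹).val
    have hl : p0 ^ l * p = 1 := by
      rw [hi, hj, ← pow_mul, ← pow_add, ← pow_val_natCast (P_pow_eleven A hd),
        show ((i * l + j : ℕ) : ZMod 11) = 0 from ?_, ZMod.val_zero, pow_zero]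
      rw [Nat.cast_add, Nat.cast_mul, ZMod.natCast_zmod_val]
      field_simp
      ring
    have hgx : g * x ^ l = 1 := by
      by_contra hne
      refine hcl ((A.V_fix a b (g * x ^ l) hab ((A.W a).mul_mem hg ((A.W a).pow_mem hx l))
        (by rw [mul_smul, stab_pow hxb, hgb]) hne c).1 ?_)
      have e : g * x ^ l = (g * p) * (x * p0) ^ l := by
        have hpx : Commute p (x ^ l) := (W_comm A hx hp).symm.pow_right l
        calc g * x ^ l = g * x ^ l * (p0 ^ l * p) := by rw [hl, mul_one]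
          _ = g * (p * (x ^ l * p0 ^ l)) := by
            have hpp : Commute p (p0 ^ l) := W_comm A (A.P_le a hp) ((A.P a).pow_mem hp0 l)
            rw [(hpx.mul_right hpp).eq]
            group
          _ = (g * p) * (x * p0) ^ l := by rw [(W_comm A hx hp0).mul_pow, mul_assoc]
      rw [e, mul_smul, stab_pow hc, hpc]
    rw [eq_inv_of_mul_eq_one_left hgx]
    exact Subgroup.inv_mem _ (Subgroup.pow_mem _ (Subgroup.mem_zpowers x) l)
  · exfalso
    have hyn : y ^ n.val ∉ A.W a := by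
      refine H66.Eleven.y_notMem A hab ?_ (stab_pow hyb _) fun d hd => ?_
      · intro e
        have := orderOf_dvd_of_pow_eq_one e
        rw [hy5] at this
        have := Nat.eq_zero_of_dvd_of_lt this n.isLt
        exact hn0 this
      · obtain ⟨e, he⟩ := (by decide : ∀ n : Fin 5, n.val ≠ 0 → ∃ e : Fin 5, n.val * e.val % 5 = 1) n hn0
        refine hyfix d ?_
        have := stab_pow hd e.val
        rwa [← pow_mul, ← pow_mod_orderOf, hy5, he, pow_one] at this
    have hhW : h ∉ A.W a := fun e => hyn (((A.W a).mul_mem_cancel_right hg).1 e)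
    obtain ⟨d, hd, hda, hdh⟩ := A.line_fix a c h hca.symm hha hhW hhc
    obtain ⟨e, he⟩ := (by decide : ∀ n : Fin 5, n.val ≠ 0 → ∃ e : Fin 5, n.val * e.val % 5 = 1) n hn0
    have h1 := stab_pow hdh e.val
    rw [show h = y ^ n.val * g from rfl, (hcy.symm.pow_left n.val).mul_pow, ← pow_mul,
      ← pow_mod_orderOf, hy5, he, pow_one] at h1
    rcases hyx _ ((A.W a).pow_mem hg e.val) (stab_pow hgb _) d h1 with rfl | rfl
    · exact hda rfl
    · refine hcl ?_
      rw [A.line_eq a c a d hca.symm (A.line_left a c hca.symm) hd (Ne.symm hda)]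
      exact A.line_right a c hca.symm

/-- The Sylow subgroup is of order eleven. -/
theorem struct_of_second (hodd : Odd A.v) {a b c : Ω} {x₀ : G} (hab : a ≠ b) (hac : a ≠ c)
    (hx : x₀ ∈ A.W a) (hxb : x₀ • b = b) (hx1 : x₀ ≠ 1) (hxc : x₀ • c ∈ A.line a c)
    (hcl : c ∉ A.line a b) :
    11 ∣ A.u ∧ ∃ q : ℕ, A.v = 11 * q ∧ ¬ 11 ∣ q ∧ (q = 1 ∨ q % 11 = 1) ∧
      ∀ x : G, x ∈ A.W a → x • b = b → orderOf x = 11 →
        ∀ g : G, g ∈ A.W a → g • b = b → g * x * g⁻¹ ∈ Subgroup.zpowers x →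
          g ∈ Subgroup.zpowers x := by
  haveI : Fact (Nat.Prime 11) := ⟨by norm_num⟩
  obtain ⟨ho, p0, hp0, hp1, hall⟩ := slopes_of_second A hab hac hx hxb hx1 hxc hcl
  refine ⟨eleven_dvd_u A hab hx hxb ho hp0 hp1 hall, ?_⟩
  let V : Subgroup G := A.W a ⊓ stabilizer G b
  let x' : V := ⟨x₀, hx, hxb⟩
  have ho' : orderOf x' = 11 := by rw [← ho, ← Subgroup.orderOf_coe]
  let X : Subgroup V := Subgroup.zpowers x'
  have hXc : Nat.card X = 11 := by rw [Nat.card_zpowers, ho']
  have hN : Subgroup.normalizer (X : Set V) = X := by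
    refine le_antisymm (fun g hg => ?_) Subgroup.le_normalizer
    have h1 := (Subgroup.mem_normalizer_iff.1 hg x').1 (Subgroup.mem_zpowers x')
    obtain ⟨i, hi⟩ := Subgroup.mem_zpowers_iff.1 h1
    obtain ⟨j, hj⟩ := Subgroup.mem_zpowers_iff.1
      (self_normalizing A hodd hab hx hxb ho hp0 hp1 hall g.2.1 g.2.2
        (Subgroup.mem_zpowers_iff.2 ⟨i, by
          simpa [x'] using congrArg Subtype.val hi⟩))
    exact Subgroup.mem_zpowers_iff.2 ⟨j, Subtype.ext (by simpa [x'] using hj)⟩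
  obtain ⟨S, hS⟩ := (IsPGroup.of_card (p := 11) (n := 1) (by rw [hXc, pow_one]) :
    IsPGroup 11 X).exists_le_sylow
  have hSX : (S : Subgroup V) ≤ X := by
    by_contra hne
    haveI : Group.IsNilpotent (S : Subgroup V) := S.isPGroup'.isNilpotent
    obtain ⟨g, hgn, hgX⟩ := SetLike.exists_of_lt
      (Group.normalizerCondition_of_isNilpotent (G := (S : Subgroup V)) (X.subgroupOf S)
        (lt_top_iff_ne_top.2 fun e => hne (Subgroup.subgroupOf_eq_top.1 e)))
    refine hgX ?_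
    rw [Subgroup.mem_subgroupOf, ← hN, Subgroup.mem_normalizer_iff]
    intro z
    constructor
    · intro hz
      simpa [Subgroup.mem_subgroupOf] using
        (Subgroup.mem_normalizer_iff.1 hgn ⟨z, hS hz⟩).1 (by simpa [Subgroup.mem_subgroupOf] using hz)
    · intro hz
      have hzS : z ∈ (S : Subgroup V) := by
        have h := (S : Subgroup V).mul_mem ((S : Subgroup V).mul_mem
          ((S : Subgroup V).inv_mem g.2) (hS hz)) g.2
        simpa [mul_assoc] using h
      simpa [Subgroup.mem_subgroupOf] using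
        (Subgroup.mem_normalizer_iff.1 hgn ⟨z, hzS⟩).2 (by simpa [Subgroup.mem_subgroupOf] using hz)
  have hSeq : (S : Subgroup V) = X := le_antisymm hSX hS
  have hV : Nat.card V = A.v := A.card_V a b hab
  have hidx : X.index * 11 = A.v := by rw [← hV, ← hXc, Subgroup.index_mul_card]
  have hmod : X.index % 11 = 1 := by
    have h := card_sylow_modEq_one 11 V
    have e : Subgroup.normalizer (S : Set V) = X := by
      rw [show (S : Set V) = (X : Set V) from congrArg SetLike.coe hSeq, hN]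
    rw [S.card_eq_index_normalizer, e] at h
    simpa [Nat.ModEq] using h
  have hn11 : ¬ 11 ∣ X.index := fun h => by omega
  refine ⟨X.index, by rw [← hidx, mul_comm], hn11, Or.inr hmod, ?_⟩
  intro x hxW hxb' hxo g hgW hgb hgn
  let z : V := ⟨x, hxW, hxb'⟩
  have hzc : Nat.card (Subgroup.zpowers z) = 11 := by
    rw [Nat.card_zpowers, ← Subgroup.orderOf_coe]; exact hxo
  obtain ⟨T, hT⟩ := (IsPGroup.of_card (p := 11) (n := 1) (by rw [hzc, pow_one]) :
    IsPGroup 11 (Subgroup.zpowers z)).exists_le_sylow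
  obtain ⟨h, hh⟩ := MulAction.exists_smul_eq V S T
  have hTc : cj h X = (T : Subgroup V) := by
    have := congrArg (fun U : Sylow 11 V => (U : Subgroup V)) hh
    simp only [Sylow.coe_subgroup_smul, hSeq] at this
    exact this
  have hzT : Subgroup.zpowers z = cj h X := by
    refine Subgroup.eq_of_le_of_card_ge (hT.trans hTc.ge) ?_
    rw [card_cj, hXc, hzc]
  have hg' : (⟨g, hgW, hgb⟩ : V) ∈ Subgroup.normalizer ((cj h X : Subgroup V) : Set V) := by
    rw [← hzT]
    refine mem_normalizer_iff_cj.2 (Subgroup.eq_of_le_of_card_ge ?_ (card_cj _ _).ge)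
    rw [cj, MonoidHom.map_zpowers, Subgroup.zpowers_le]
    obtain ⟨i, hi⟩ := Subgroup.mem_zpowers_iff.1 hgn
    exact Subgroup.mem_zpowers_iff.2 ⟨i, Subtype.ext (by simpa [z] using hi)⟩
  have hg2 : h⁻¹ * ⟨g, hgW, hgb⟩ * h ∈ X := by
    rw [← hN]
    refine mem_normalizer_iff_cj.2 ?_
    rw [← cj_cj, ← cj_cj, mem_normalizer_iff_cj.1 hg', cj_inv_cj]
  have hg3 : (⟨g, hgW, hgb⟩ : V) ∈ Subgroup.zpowers z := by
    rw [hzT, mem_cj]; exact hg2
  obtain ⟨i, hi⟩ := Subgroup.mem_zpowers_iff.1 hg3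
  exact Subgroup.mem_zpowers_iff.2 ⟨i, by simpa [z] using congrArg Subtype.val hi⟩

end H21.Eleven
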