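import Cfsg.Agent.H21.Eleven.Geo

/-!
The centraliser of a point is transitive on the other points (helper21): the Sylow 5-subgroups of
a point stabiliser fix exactly one further point and lie in `W⟨y⟩`.
-/

set_option autoImplicit false

namespace H21.Eleven

open H63.Eleven MulAction

universe u

variable {G : Type u} [Group G] [Finite G] (S : Sys G) (hall : S.AllL2)
include hall

theorem exists_max_five {a b : S.Pt} (hab : a ≠ b) {y : G} (hy : orderOf y = 5)
    (hya : y • a = a) (hyb : y • b = b) (hfix : ∀ c, y • c = c → c = a ∨ c = b) :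
    ∃ Q : Subgroup G, IsPGroup 5 Q ∧ Q ≤ stabilizer G a ∧ Q ≤ stabilizer G b ∧ y ∈ Q ∧
      ∀ R : Subgroup G, IsPGroup 5 R → R ≤ stabilizer G a → Q ≤ R → R ≤ Q := by
  haveI : Fact (Nat.Prime 5) := ⟨by norm_num⟩
  let p : Subgroup G → Prop := fun Q =>
    IsPGroup 5 Q ∧ Q ≤ stabilizer G a ∧ Q ≤ stabilizer G b
  have hp : p (Subgroup.zpowers y) :=
    ⟨IsPGroup.of_card (n := 1) (by rw [Nat.card_zpowers, hy, pow_one]),
      Subgroup.zpowers_le.mpr hya, Subgroup.zpowers_le.mpr hyb⟩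
  obtain ⟨Q, hle, ⟨hQ, hQa, hQb⟩, hmax⟩ := Finite.exists_le_maximal (p := p) hp
  have hyQ : y ∈ Q := hle (Subgroup.mem_zpowers y)
  refine ⟨Q, hQ, hQa, hQb, hyQ, fun R hR hRa hQR => ?_⟩
  by_contra hne
  haveI : Group.IsNilpotent R := hR.isNilpotent
  have hlt : Q.subgroupOf R < ⊤ :=
    lt_top_iff_ne_top.mpr fun e => hne (Subgroup.subgroupOf_eq_top.mp e)
  obtain ⟨g, hgn, hgQ⟩ :=
    SetLike.exists_of_lt (Group.normalizerCondition_of_isNilpotent (G := R) _ hlt)
  have hconj : (g : G)⁻¹ * y * g ∈ Q := by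
    have := (Subgroup.mem_normalizer_iff.mp hgn (g⁻¹ * ⟨y, hQR hyQ⟩ * g)).mpr
      (by simpa [Subgroup.mem_subgroupOf, mul_assoc] using hyQ)
    simpa [Subgroup.mem_subgroupOf] using this
  have hyg : y • ((g : G) • b) = (g : G) • b := by
    have := mem_stabilizer_iff.mp (hQb hconj)
    rwa [mul_smul, mul_smul, inv_smul_eq_iff] at this
  have hgb : (g : G) • b = b := by
    refine (hfix _ hyg).resolve_left fun e => hab ?_
    have hga : (g : G) • a = a := hRa g.2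
    exact smul_left_cancel (g : G) (hga.trans e.symm)
  have hQ' : R ⊓ stabilizer G b ≤ Q :=
    hmax ⟨hR.to_le inf_le_left, inf_le_left.trans hRa, inf_le_right⟩
      (le_inf hQR hQb)
  exact hgQ (hQ' ⟨g.2, hgb⟩)

theorem wgp_orbit {a b c : S.Pt} (hab : a ≠ b) (hac : a ≠ c) :
    ∃ g ∈ wgp S a, g • b = c := by
  haveI : Fact (Nat.Prime 5) := ⟨by norm_num⟩
  obtain ⟨y, -, hy5, hyL, hya, hyb, -, -, -, -, -, hfix, -⟩ := exists_frame S hall hab
  obtain ⟨z, -, hz5, -, hza, hzc, -, -, -, -, -, hfix', -⟩ := exists_frame S hall hac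
  obtain ⟨Q, hQ, hQa, hQb0, hyQ, hQmax⟩ := exists_max_five S hall hab hy5 hya hyb hfix
  obtain ⟨Q', hQ', hQa', -, hzQ, hQmax'⟩ := exists_max_five S hall hac hz5 hza hzc hfix'
  have hA := pt_card S a
  let H₀ : Subgroup G :=
    { carrier := {x | x • a = a ∧ ∃ m : ZMod 11, Mult x a.1 m ∧ m ^ 5 = 1}
      one_mem' := ⟨one_smul G a, 1, mult_one hA, one_pow 5⟩
      mul_mem' := by
        rintro x x' ⟨hx, m, hm, hm5⟩ ⟨hx', n, hn, hn5⟩
        exact ⟨by rw [mul_smul, hx', hx], m * n, Mult.mul hA hm hn, by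
          rw [mul_pow, hm5, hn5, one_mul]⟩
      inv_mem' := by
        rintro x ⟨hx, m, hm, hm5⟩
        have e : x⁻¹ = x ^ (orderOf x - 1) := by
          refine inv_eq_of_mul_eq_one_left ?_
          rw [← pow_succ, Nat.sub_add_cancel (orderOf_pos x), pow_orderOf_eq_one]
        rw [e]
        exact ⟨(stabilizer G a).pow_mem hx _, m ^ (orderOf x - 1), Mult.pow hA hm _, by
          rw [← pow_mul, mul_comm, pow_mul, hm5, one_pow]⟩ }
  have hH₀ : H₀ ≤ stabilizer G a := fun x hx => hx.1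
  have hin : ∀ R : Subgroup G, IsPGroup 5 R → R ≤ stabilizer G a → R ≤ H₀ := by
    intro R hR hRa x hx
    refine ⟨hRa hx, ?_⟩
    obtain ⟨m, hm⟩ := mult_pt S (show x • a = a from hRa hx)
    obtain ⟨k, hk⟩ := hR ⟨x, hx⟩
    have hk' : x ^ 5 ^ k = 1 := congrArg Subtype.val hk
    have h1 := Mult.pow hA hm (5 ^ k)
    rw [hk'] at h1
    have h2 : m ^ 5 ^ k = 1 := Mult.unique hA h1 (mult_one hA)
    have h3 : orderOf m ∣ 5 := by
      refine (Nat.Coprime.dvd_of_dvd_mul_left (k := orderOf m) (m := 2) ?_ ?_)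
      · exact Nat.Coprime.coprime_dvd_left (orderOf_dvd_of_pow_eq_one h2)
          (Nat.Coprime.pow_left k (by norm_num))
      · exact orderOf_dvd_of_pow_eq_one (ZMod.pow_card_sub_one_eq_one (Mult.ne_zero hA hm))
    exact ⟨m, hm, orderOf_dvd_iff_pow_eq_one.mp h3⟩
  have hQ0 := hin Q hQ hQa
  have hQ0' := hin Q' hQ' hQa'
  have mk : ∀ R : Subgroup G, IsPGroup 5 R → R ≤ H₀ →
      (∀ T : Subgroup G, IsPGroup 5 T → T ≤ stabilizer G a → R ≤ T → T ≤ R) →
      ∃ P : Sylow 5 H₀, (P : Subgroup H₀) = R.subgroupOf H₀ := by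
    intro R hR hRH hmax
    refine ⟨{ toSubgroup := R.subgroupOf H₀
              isPGroup' := hR.of_equiv (Subgroup.subgroupOfEquivOfLe hRH).symm
              is_maximal' := fun {T} hT hle => le_antisymm ?_ hle }, rfl⟩
    intro x hx
    refine hmax (T.map H₀.subtype) (hT.map _) ((Subgroup.map_subtype_le T).trans hH₀) ?_
      ⟨x, hx, rfl⟩
    intro r hr
    exact ⟨⟨r, hRH hr⟩, hle hr, rfl⟩
  obtain ⟨P, hP⟩ := mk Q hQ hQ0 hQmax
  obtain ⟨P', hP'⟩ := mk Q' hQ' hQ0' hQmax'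
  obtain ⟨g, hg⟩ := MulAction.exists_smul_eq H₀ P P'
  have hcj : cj (g : G) Q = Q' := by
    have := congrArg (fun U : Sylow 5 H₀ => (U : Subgroup H₀)) hg
    simp only [Sylow.coe_subgroup_smul, hP, hP'] at this
    refine subgroupOf_inj (cj_le_of_mem g.2 hQ0) hQ0' ?_
    rw [← cj_subgroupOf]
    exact this
  have hga : (g : G) • a = a := hH₀ g.2
  have hgb : (g : G) • b = c := by
    have hzb : z • ((g : G) • b) = (g : G) • b := by
      rw [← hcj, mem_cj] at hzQ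
      have hQb : (g : G)⁻¹ * z * g ∈ stabilizer G b := by
        exact hQb0 hzQ
      have := mem_stabilizer_iff.mp hQb
      rwa [mul_smul, mul_smul, inv_smul_eq_iff] at this
    refine (hfix' _ hzb).resolve_left fun e => hab ?_
    exact smul_left_cancel (g : G) (hga.trans e.symm)
  obtain ⟨-, m, hm, hm5⟩ := g.2
  obtain ⟨n, hn⟩ := mult_pt S hya
  have h5 : y ^ 5 = 1 := hy5 ▸ pow_orderOf_eq_one y
  have hn5 : n ^ 5 = 1 := by
    have := Mult.pow hA hn 5
    rw [h5] at this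
    exact Mult.unique hA this (mult_one hA)
  have hn1 : n ≠ 1 := fun e => by
    have := (isLine S hall hab).eq_one_of_fix_five hyL (mult_one_iff.mp (e ▸ hn)) h5
    rw [this, orderOf_one] at hy5
    norm_num at hy5
  obtain ⟨i, hi⟩ := (by decide : ∀ n m : ZMod 11, n ^ 5 = 1 → n ≠ 1 → m ^ 5 = 1 →
    ∃ i : Fin 5, m * n ^ i.val = 1) n m hn5 hn1 hm5
  refine ⟨(g : G) * y ^ i.val, (mem_wgp S).mpr (mult_one_iff.mp ?_), ?_⟩
  · rw [← hi]; exact Mult.mul hA hm (Mult.pow hA hn _)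
  · rw [mul_smul, show y ^ i.val • b = b from (stabilizer G b).pow_mem hyb _, hgb]

end H21.Eleven
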